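import Groth.Agent.Lib.RedLR15.LieAct
import Groth.Agent.Lib.PsRefl28.Stab
import Groth.Agent.Lib.Cartier.Smooth
import Groth.Agent.S7985
import Groth.Prelude.Def_CoactBr
import Mathlib.RingTheory.Nullstellensatz
import Mathlib.RingTheory.Jacobson.Ring
import Mathlib.LinearAlgebra.Dual.Lemmas

/-!
# Vectors killed by the Lie algebra are fixed; stabiliser ideals
-/

set_option linter.style.haveILetI false
set_option backward.isDefEq.respectTransparency.types false

open TensorProduct HopfRep WithConv LieHopf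

universe u w

noncomputable section

namespace Groth.Agent.RedLR15

open Groth.Agent.PsRefl28 (slice stab slice_tmul eq_zero_of_slice slice_lTensor counit_slice slice_tmul_one
  isHopfIdeal_stab)

variable {k : Type u} [Field k] {A : Type u} [CommRing A] [HopfAlgebra k A]

section Points

omit [HopfAlgebra k A] in
/-- Rational points separate functions on a reduced algebra of finite type over an algebraically closed field. -/
theorem eq_zero_of_forall_pts [IsAlgClosed k] [Algebra k A] [Algebra.FiniteType k A] [IsReduced A] {c : A}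
    (hc : ∀ h : A →ₐ[k] k, h c = 0) : c = 0 := by
  by_contra hne
  haveI : IsJacobsonRing A := isJacobsonRing_of_finiteType (A := k) (B := A)
  have hj : Ideal.jacobson (⊥ : Ideal A) = ⊥ :=
    IsJacobsonRing.out (inferInstance : IsJacobsonRing A) (Ideal.isRadical_bot_iff.2 inferInstance)
  obtain ⟨m, hm, hcm⟩ : ∃ m : Ideal A, m.IsMaximal ∧ c ∉ m := by
    by_contra hno
    push Not at hno
    have : c ∈ Ideal.jacobson (⊥ : Ideal A) := Submodule.mem_sInf.2 fun m hm => hno m hm.2
    rw [hj] at this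
    exact hne this
  haveI := hm
  letI := Ideal.Quotient.field m
  haveI : Algebra.FiniteType k (A ⧸ m) :=
    Algebra.FiniteType.of_surjective (Ideal.Quotient.mkₐ k m) Ideal.Quotient.mk_surjective
  haveI : Module.Finite k (A ⧸ m) := finite_of_finite_type_of_isJacobsonRing k (A ⧸ m)
  have hbij : Function.Bijective (algebraMap k (A ⧸ m)) :=
    IsAlgClosed.algebraMap_bijective_of_isIntegral (k := k) (K := A ⧸ m)
  let e : k ≃ₐ[k] A ⧸ m := AlgEquiv.ofBijective (Algebra.ofId k (A ⧸ m)) hbij
  have h := hc (e.symm.toAlgHom.comp (Ideal.Quotient.mkₐ k m))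
  have h2 : e.symm (Ideal.Quotient.mk m c) = 0 := h
  rw [map_eq_zero_iff _ e.symm.injective, Ideal.Quotient.eq_zero_iff_mem] at h2
  exact hcm h2

end Points

theorem formallySmooth_of_hopf [CharZero k] (B : Type u) [CommRing B] [HopfAlgebra k B] [Algebra.FiniteType k B] :
    Algebra.FormallySmooth k B := by
  let G := (AlgebraicGeometry.Spec (CommRingCat.of B)).asOver (AlgebraicGeometry.Spec (CommRingCat.of k))
  haveI : AlgebraicGeometry.LocallyOfFiniteType G.hom := by
    show AlgebraicGeometry.LocallyOfFiniteType (AlgebraicGeometry.Spec.map (CommRingCat.ofHom (algebraMap k B)))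
    rw [AlgebraicGeometry.HasRingHomProperty.Spec_iff (P := @AlgebraicGeometry.LocallyOfFiniteType)]
    exact RingHom.finiteType_algebraMap.2 inferInstance
  have hs : AlgebraicGeometry.Smooth G.hom := Groth.Agent.Cartier.smooth_of_charZero (K := k) G
  change AlgebraicGeometry.Smooth (AlgebraicGeometry.Spec.map (CommRingCat.ofHom (algebraMap k B))) at hs
  rw [AlgebraicGeometry.HasRingHomProperty.Spec_iff (P := @AlgebraicGeometry.Smooth)] at hs
  haveI := RingHom.smooth_algebraMap.1 hs
  infer_instance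

variable {V : Type w} [AddCommGroup V] [Module k V] [Comod k A V]

theorem apply_slice (φ : V →ₗ[k] k) (P : A →ₗ[k] k) (z : V ⊗[k] A) :
    P (slice φ z) = φ (TensorProduct.rid k V (LinearMap.lTensor V P z)) := by
  induction z with
  | zero => simp
  | tmul m a => simp [mul_comm]
  | add a b ha hb => simp only [map_add, ha, hb]

theorem apply_slice_coact_sub (φ : V →ₗ[k] k) (P : A →ₗ[k] k) (v : V) :
    P (slice φ (Comod.coact (k := k) (A := A) v - v ⊗ₜ[k] (1 : A))) = φ (dact A V P v - P 1 • v) := by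
  rw [apply_slice]
  congr 1
  simp [dact_apply]

theorem counit_slice_sub (φ : V →ₗ[k] k) (v : V) :
    Bialgebra.counitAlgHom k A (slice φ (Comod.coact (k := k) (A := A) v - v ⊗ₜ[k] (1 : A))) = 0 := by
  show CoalgebraStruct.counit (R := k) (slice φ (Comod.coact v - v ⊗ₜ[k] (1 : A))) = 0
  rw [map_sub, map_sub, counit_slice, slice_tmul_one, Bialgebra.counit_algebraMap, sub_self]

theorem stab_le_counit (v : V) : stab (k := k) A v ≤ RingHom.ker (Bialgebra.counitAlgHom k A) := by
  refine Ideal.span_le.2 ?_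
  rintro _ ⟨φ, rfl⟩
  exact counit_slice_sub φ v

theorem IsDer.eq_zero_on_stab {d : A →ₗ[k] k} (hd : IsDer d) {v : V} (hv : dact A V d v = 0) {x : A}
    (hx : x ∈ stab (k := k) A v) : d x = 0 := by
  refine hd.eq_zero_of_mem_span ?_ hx
  rintro _ ⟨φ, rfl⟩
  refine ⟨counit_slice_sub φ v, ?_⟩
  rw [apply_slice_coact_sub, hv, hd.apply_one, zero_smul, sub_zero, map_zero]

theorem stab_le_ker_iff (g : A →ₐ[k] k) (v : V) :
    stab (k := k) A v ≤ RingHom.ker g ↔ Comod.act k A V g v = v := by
  constructor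
  · intro h
    rw [← sub_eq_zero]
    refine (Module.forall_dual_apply_eq_zero_iff k _).1 fun φ => ?_
    have h1 : g (slice φ (Comod.coact (k := k) (A := A) v - v ⊗ₜ[k] (1 : A))) = 0 :=
      h (Ideal.subset_span ⟨φ, rfl⟩)
    have h2 := apply_slice_coact_sub φ g.toLinearMap v
    rw [AlgHom.toLinearMap_apply, AlgHom.toLinearMap_apply, map_one, one_smul, dact_alg, h1] at h2
    exact h2.symm
  · intro h
    refine Ideal.span_le.2 ?_
    rintro _ ⟨φ, rfl⟩
    show g.toLinearMap _ = 0
    rw [apply_slice_coact_sub, dact_alg, AlgHom.toLinearMap_apply, map_one, one_smul, h, sub_self, map_zero]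

theorem mem_fixedPts_of_stab_eq_bot {v : V} (h : stab (k := k) A v = ⊥) : v ∈ fixedPts k A V := by
  show Comod.coact (k := k) (A := A) v = v ⊗ₜ[k] (1 : A)
  rw [← sub_eq_zero]
  refine eq_zero_of_slice fun φ => ?_
  have hm : slice φ (Comod.coact (k := k) (A := A) v - v ⊗ₜ[k] (1 : A)) ∈ stab (k := k) A v :=
    Ideal.subset_span ⟨φ, rfl⟩
  rwa [h, Ideal.mem_bot] at hm

/-- For a connected group in characteristic zero the vectors killed by the Lie algebra are fixed. -/
theorem mem_fixedPts_of_forall_der [CharZero k] [Algebra.FiniteType k A]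
    (hconn : ∀ e : A, IsIdempotentElem e → e = 0 ∨ e = 1) {v : V}
    (hv : ∀ d : A →ₗ[k] k, IsDer d → dact A V d v = 0) : v ∈ fixedPts k A V := by
  haveI := isHopfIdeal_stab (k := k) (A := A) v
  haveI : Algebra.FiniteType k (A ⧸ stab (k := k) A v) :=
    Algebra.FiniteType.of_surjective (Ideal.Quotient.mkₐ k _) Ideal.Quotient.mk_surjective
  haveI := formallySmooth_of_hopf (k := k) (A ⧸ stab (k := k) A v)
  refine mem_fixedPts_of_stab_eq_bot (Groth.Agent.S7985.result k A hconn _ fun D a ha => ?_)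
  exact (isDer_lie D).eq_zero_on_stab (hv _ (isDer_lie D)) ha

/-- A supremum of Hopf ideals is a Hopf ideal. -/
theorem isHopfIdeal_sup (I J : Ideal A) [hI : I.IsHopfIdeal k] [hJ : J.IsHopfIdeal k] : (I ⊔ J).IsHopfIdeal k := by
  let Φ : A →ₐ[k] (A ⧸ I ⊔ J) ⊗[k] (A ⧸ I ⊔ J) :=
    (Algebra.TensorProduct.map (Ideal.Quotient.mkₐ k _) (Ideal.Quotient.mkₐ k _)).comp
      (Bialgebra.comulAlgHom k A)
  have hfac : ∀ (L : Ideal A) (hL : L ≤ I ⊔ J), (L.restrictScalars k).IsCoideal → ∀ x ∈ L, Φ x = 0 := by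
    intro L hL hco x hx
    have h0 : TensorProduct.map (Ideal.Quotient.mkₐ k L).toLinearMap (Ideal.Quotient.mkₐ k L).toLinearMap
        (CoalgebraStruct.comul (R := k) x) = 0 := hco.map_mkQ_comul_eq_zero (x := x) hx
    have key : ∀ z : A ⊗[k] A, Algebra.TensorProduct.map (Ideal.Quotient.mkₐ k (I ⊔ J)) (Ideal.Quotient.mkₐ k (I ⊔ J)) z
        = Algebra.TensorProduct.map (Ideal.Quotient.factorₐ k hL) (Ideal.Quotient.factorₐ k hL)
          (TensorProduct.map (Ideal.Quotient.mkₐ k L).toLinearMap (Ideal.Quotient.mkₐ k L).toLinearMap z) := by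
      intro z
      induction z with
      | zero => simp
      | tmul a b => simp
      | add a b ha hb => simp only [map_add, ha, hb]
    show Algebra.TensorProduct.map _ _ (CoalgebraStruct.comul (R := k) x) = 0
    rw [key, h0, map_zero]
  have hcoI : (I.restrictScalars k).IsCoideal := hI.toIsCoideal
  have hcoJ : (J.restrictScalars k).IsCoideal := hJ.toIsCoideal
  refine { toIsCoideal := { counit_eq_zero := ?_, map_mkQ_comul_eq_zero := ?_ }, antipode_mem := ?_ }
  · intro x hx
    obtain ⟨a, ha, b, hb, rfl⟩ := Submodule.mem_sup.1 (show x ∈ I ⊔ J from hx)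
    rw [map_add, hcoI.counit_eq_zero ha, hcoJ.counit_eq_zero hb, add_zero]
  · intro x hx
    have hle : I ⊔ J ≤ RingHom.ker Φ :=
      sup_le (fun y hy => hfac I le_sup_left hcoI y hy) (fun y hy => hfac J le_sup_right hcoJ y hy)
    exact hle (show x ∈ I ⊔ J from hx)
  · intro x hx
    obtain ⟨a, ha, b, hb, rfl⟩ := Submodule.mem_sup.1 hx
    rw [map_add]
    exact Submodule.add_mem_sup (hI.antipode_mem ha) (hJ.antipode_mem hb)

theorem isHopfIdeal_finsetSup {ι : Type*} (s : Finset ι) (I : ι → Ideal A) (hI : ∀ i ∈ s, (I i).IsHopfIdeal k)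
    (J : Ideal A) [hJ : J.IsHopfIdeal k] : (J ⊔ s.sup I).IsHopfIdeal k := by
  classical
  induction s using Finset.induction_on with
  | empty => rw [Finset.sup_empty, sup_bot_eq]; exact hJ
  | insert i s hi ih =>
    haveI := hI i (Finset.mem_insert_self i s)
    haveI := ih fun j hj => hI j (Finset.mem_insert_of_mem hj)
    rw [Finset.sup_insert, sup_left_comm]
    exact isHopfIdeal_sup _ _

end Groth.Agent.RedLR15
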