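import Groth.Agent.Lib.RedLR15.Fixed
import Groth.Agent.S8024
import Mathlib.Algebra.Lie.LieTheorem
import Mathlib.Algebra.Lie.Solvable
import Mathlib.LinearAlgebra.Eigenspace.Triangularizable
import Mathlib.LinearAlgebra.Eigenspace.Minpoly
import Mathlib.LinearAlgebra.Eigenspace.Charpoly
import Mathlib.LinearAlgebra.Charpoly.Basic

/-!
# The radical of the Lie algebra of an irreducible representation is scalar
-/

set_option linter.style.haveILetI false
set_option backward.isDefEq.respectTransparency.types false

open TensorProduct HopfRep WithConv LieHopf Polynomial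

universe u w

noncomputable section

namespace Groth.Agent.RedLR15

attribute [local instance 100] LieRing.ofAssociativeRing

open Groth.Agent.PsRefl28 (slice slice_tmul)

variable {k : Type u} [Field k] {A : Type u} [CommRing A] [HopfAlgebra k A]
  {W : Type u} [AddCommGroup W] [Module k W] [Comod k A W]

/-- The inverse of a point. -/
def ptInv (g : A →ₐ[k] k) : A →ₐ[k] k := g.comp (HopfAlgebra.antipodeAlgHom k A)

theorem toConv_ptInv_mul (g : A →ₐ[k] k) : toConv (ptInv g) * toConv g = 1 := by
  apply WithConv.ofConv_injective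
  have h := AlgHom.comp_convMul_distrib g (toConv (HopfAlgebra.antipodeAlgHom k A)) (toConv (AlgHom.id k A))
  rw [AlgHom.antipode_id_cancel] at h
  simp only [WithConv.ofConv_toConv, AlgHom.comp_id] at h
  exact h.symm.trans (AlgHom.ext fun c => by simp)

theorem toConv_mul_ptInv (g : A →ₐ[k] k) : toConv g * toConv (ptInv g) = 1 :=
  mul_eq_one_comm.1 (toConv_ptInv_mul g)

theorem act_ptInv_mul (g : A →ₐ[k] k) : Comod.act k A W (ptInv g) * Comod.act k A W g = 1 := by
  rw [act_mul_act, toConv_ptInv_mul, act_one]

theorem act_mul_ptInv (g : A →ₐ[k] k) : Comod.act k A W g * Comod.act k A W (ptInv g) = 1 := by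
  rw [act_mul_act, toConv_mul_ptInv, act_one]

variable [IsAlgClosed k] [Algebra.FiniteType k A] [IsReduced A] [FiniteDimensional k W]

theorem isSubcomod_of_act {N : Submodule k W} (h : ∀ (g : A →ₐ[k] k), ∀ w ∈ N, Comod.act k A W g w ∈ N) :
    IsSubcomod (k := k) (A := A) N := by
  refine (Groth.Agent.S8024.result k A Set.univ (fun a ha => eq_zero_of_forall_pts fun g => ha g trivial) W N).2
    fun g _ => ?_
  rintro _ ⟨w, hw, rfl⟩
  exact h g w hw

/-- Schur's lemma. -/
theorem exists_scalar_of_commute (hW : IsSimpleComod k A W) (T : Module.End k W)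
    (hT : ∀ g : A →ₐ[k] k, Comod.act k A W g * T = T * Comod.act k A W g) : ∃ t : k, T = t • 1 := by
  haveI := hW.1
  obtain ⟨t, ht⟩ := Module.End.exists_eigenvalue T
  refine ⟨t, ?_⟩
  have hsub : IsSubcomod (k := k) (A := A) (Module.End.eigenspace T t) := isSubcomod_of_act fun g w hw => by
    rw [Module.End.mem_eigenspace_iff] at hw ⊢
    have := LinearMap.congr_fun (hT g) w
    simp only [Module.End.mul_apply, hw, map_smul] at this
    exact this.symm
  rcases hW.2 _ hsub with h | h
  · exact absurd h ht
  · refine LinearMap.ext fun w => ?_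
    have : w ∈ Module.End.eigenspace T t := h ▸ Submodule.mem_top
    simpa [Module.End.mem_eigenspace_iff] using this

/-- The radical of the Lie algebra image on a simple comodule consists of scalars. -/
theorem radical_le_scalar [CharZero k] [IsDomain A] (hW : IsSimpleComod k A W)
    (r : lieImg (k := k) A W) (hr : r ∈ LieAlgebra.radical k (lieImg (k := k) A W)) :
    ∃ t : k, (r : Module.End k W) = t • 1 := by
  classical
  haveI := hW.1
  let L := lieImg (k := k) A W
  let R := LieAlgebra.radical k L
  -- conjugation by a point preserves the radical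
  have hAd : ∀ (g : A →ₐ[k] k) (x : L), x ∈ R →
      (⟨Comod.act k A W g * (x : Module.End k W) * Comod.act k A W (ptInv g),
        act_conj_mem_lieImg x.2 (toConv_mul_ptInv g)⟩ : L) ∈ R := by
    intro g x hx
    let cj : ∀ h : A →ₐ[k] k, L →ₗ⁅k⁆ L := fun h =>
      { toFun := fun y => ⟨Comod.act k A W h * (y : Module.End k W) * Comod.act k A W (ptInv h),
          act_conj_mem_lieImg y.2 (toConv_mul_ptInv h)⟩
        map_add' := fun y y' => Subtype.ext (by simp [mul_add, add_mul])
        map_smul' := fun c y => Subtype.ext (by simp)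
        map_lie' := fun {y y'} => Subtype.ext (by
          have e1 : ∀ a b : Module.End k W,
              Comod.act k A W h * a * Comod.act k A W (ptInv h) * (Comod.act k A W h * b * Comod.act k A W (ptInv h)) =
                Comod.act k A W h * (a * b) * Comod.act k A W (ptInv h) := fun a b => by
            simp only [mul_assoc]
            rw [← mul_assoc (Comod.act k A W (ptInv h)) (Comod.act k A W h), act_ptInv_mul, one_mul]
          simp only [LieSubalgebra.coe_bracket, Ring.lie_def, e1, mul_sub, sub_mul]) }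
    let J : LieIdeal k L :=
      { toSubmodule := (R : Submodule k L).comap (cj (ptInv g) : L →ₗ[k] L)
        lie_mem := fun {y z} hz => by
          show cj (ptInv g) ⁅y, z⁆ ∈ R
          rw [LieHom.map_lie]
          exact R.lie_mem hz }
    haveI : LieAlgebra.IsSolvable R := inferInstanceAs (LieAlgebra.IsSolvable (LieAlgebra.radical k L))
    let f : J →ₗ⁅k⁆ R :=
      { toFun := fun y => ⟨cj (ptInv g) y.1, y.2⟩
        map_add' := fun y y' => Subtype.ext (map_add _ _ _)
        map_smul' := fun c y => Subtype.ext (map_smul _ _ _)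
        map_lie' := fun {y y'} => Subtype.ext ((cj (ptInv g)).map_lie _ _) }
    have hptinv : ∀ (y : L), Comod.act k A W (ptInv (ptInv g)) = Comod.act k A W g := fun _ => by
      refine (left_inv_eq_right_inv (act_mul_ptInv g) ?_).symm
      exact act_mul_ptInv (ptInv g)
    have hcancel : ∀ y : L, cj (ptInv g) ⟨Comod.act k A W g * (y : Module.End k W) * Comod.act k A W (ptInv g),
        act_conj_mem_lieImg y.2 (toConv_mul_ptInv g)⟩ = y := fun y => Subtype.ext (by
      show Comod.act k A W (ptInv g) * (Comod.act k A W g * (y : Module.End k W) * Comod.act k A W (ptInv g)) *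
        Comod.act k A W (ptInv (ptInv g)) = y
      rw [hptinv y]
      simp only [← mul_assoc, act_ptInv_mul, one_mul]
      rw [mul_assoc, act_ptInv_mul, mul_one])
    have hinj : Function.Injective f := by
      intro y y' h
      have h' : cj (ptInv g) y.1 = cj (ptInv g) y'.1 := congrArg Subtype.val h
      refine Subtype.ext (Subtype.ext ?_)
      have h2 := congrArg (fun z : L => Comod.act k A W g * (z : Module.End k W) * Comod.act k A W (ptInv g)) h'
      simp only [cj, LieHom.coe_mk, hptinv y.1] at h2
      simpa [← mul_assoc, act_mul_ptInv, mul_assoc _ (Comod.act k A W g) (Comod.act k A W (ptInv g))] using h2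
    haveI : LieAlgebra.IsSolvable J := hinj.lieAlgebra_isSolvable
    have hJ : J ≤ R := (LieAlgebra.LieIdeal.solvable_iff_le_radical k L J).1 inferInstance
    refine hJ ?_
    show cj (ptInv g) _ ∈ R
    rw [hcancel x]
    exact hx
  haveI : LieAlgebra.IsSolvable R := inferInstanceAs (LieAlgebra.IsSolvable (LieAlgebra.radical k L))
  obtain ⟨χ, hχ⟩ := LieModule.exists_nontrivial_weightSpace_of_isSolvable k R W
  let N : Submodule k W := (LieModule.weightSpace W (χ : R → k) : LieSubmodule k R W)
  have hN : ∀ w, w ∈ N ↔ ∀ x : R, ((x : L) : Module.End k W) w = χ x • w := fun w =>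
    LieModule.mem_weightSpace _ _
  obtain ⟨w₀, hw₀, hw₀0⟩ : ∃ w ∈ N, w ≠ (0 : W) := by
    obtain ⟨a, ha⟩ := exists_ne (0 : LieModule.weightSpace W (χ : R → k))
    exact ⟨a.1, a.2, fun h => ha (Subtype.ext h)⟩
  obtain ⟨φ, hφ⟩ : ∃ φ : W →ₗ[k] k, φ w₀ = 1 := by
    obtain ⟨φ, hφ⟩ := LinearMap.exists_leftInverse_of_injective (LinearMap.toSpanSingleton k W w₀)
      (LinearMap.ker_toSpanSingleton k hw₀0)
    exact ⟨φ, by simpa using LinearMap.congr_fun hφ 1⟩
  -- the character is invariant under conjugation
  have hkey : ∀ (g : A →ₐ[k] k) (x : R),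
      χ ⟨⟨Comod.act k A W g * ((x : L) : Module.End k W) * Comod.act k A W (ptInv g),
        act_conj_mem_lieImg (x : L).2 (toConv_mul_ptInv g)⟩, hAd g x.1 x.2⟩ = χ x := by
    intro g₀ x
    let X : Module.End k W := ((x : L) : Module.End k W)
    let Ψ : W ⊗[k] A →ₗ[k] A := TensorProduct.lift
      ((LinearMap.mul k A).compl₁₂ (slice φ ∘ₗ Comod.coact (k := k) (A := A) ∘ₗ X)
        (HopfAlgebra.antipode k))
    let f : A := Ψ (Comod.coact (k := k) (A := A) w₀)
    let F : (A →ₐ[k] k) → k := fun g => χ ⟨⟨Comod.act k A W g * X * Comod.act k A W (ptInv g),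
        act_conj_mem_lieImg (x : L).2 (toConv_mul_ptInv g)⟩, hAd g x.1 x.2⟩
    have hF : ∀ g, (Comod.act k A W g * X * Comod.act k A W (ptInv g)) w₀ = F g • w₀ := fun g =>
      (hN w₀).1 hw₀ ⟨⟨_, act_conj_mem_lieImg (x : L).2 (toConv_mul_ptInv g)⟩, hAd g x.1 x.2⟩
    have hgf : ∀ g : A →ₐ[k] k, g f = F g := fun g => by
      have h1 : φ ((Comod.act k A W g * X * Comod.act k A W (ptInv g)) w₀) = F g := by
        rw [hF, map_smul, hφ, smul_eq_mul, mul_one]
      rw [← h1, Module.End.mul_apply, Module.End.mul_apply, ← dact_alg, ← dact_alg, dact_apply (ptInv g).toLinearMap w₀]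
      show g (Ψ _) = _
      generalize Comod.coact (k := k) (A := A) w₀ = z
      induction z with
      | zero => simp
      | add a b ha hb => simp only [map_add, ha, hb]
      | tmul u a =>
        simp only [Ψ, TensorProduct.lift.tmul, LinearMap.compl₁₂_apply, LinearMap.mul_apply', LinearMap.comp_apply,
          LinearMap.lTensor_tmul, TensorProduct.rid_tmul, map_smul, map_mul, AlgHom.toLinearMap_apply, ptInv,
          AlgHom.comp_apply, HopfAlgebra.antipodeAlgHom_apply, smul_eq_mul]
        rw [dact_apply, ← apply_slice φ g.toLinearMap, AlgHom.toLinearMap_apply, mul_comm]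
    have hroot : ∀ g, (X.charpoly).eval (F g) = 0 := fun g => by
      have hv : X (Comod.act k A W (ptInv g) w₀) = F g • Comod.act k A W (ptInv g) w₀ := by
        have h := congrArg (Comod.act k A W (ptInv g)) (hF g)
        rwa [← Module.End.mul_apply, ← mul_assoc, ← mul_assoc, act_ptInv_mul, one_mul, Module.End.mul_apply,
          map_smul] at h
      have hne : Comod.act k A W (ptInv g) w₀ ≠ 0 := fun h0 => hw₀0 (by
        have := congrArg (Comod.act k A W g) h0
        rwa [← Module.End.mul_apply, act_mul_ptInv, Module.End.one_apply, map_zero] at this)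
      exact (Module.End.hasEigenvalue_iff_isRoot_charpoly _ _).1
        (Module.End.hasEigenvalue_of_hasEigenvector (Module.End.hasEigenvector_iff.2
          ⟨Module.End.mem_eigenspace_iff.2 hv, hne⟩))
    have hf0 : Polynomial.aeval f X.charpoly = 0 := eq_zero_of_forall_pts fun g => by
      rw [← Polynomial.aeval_algHom_apply, hgf, Polynomial.aeval_def, Algebra.algebraMap_self,
        Polynomial.eval₂_id, hroot]
    obtain ⟨c, hc⟩ : ∃ c : k, f = algebraMap k A c := by
      rw [(IsAlgClosed.splits X.charpoly).eq_prod_roots_of_monic X.charpoly_monic, map_multiset_prod,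
        Multiset.map_map, Multiset.prod_eq_zero_iff, Multiset.mem_map] at hf0
      obtain ⟨c, -, hc⟩ := hf0
      exact ⟨c, by simpa [sub_eq_zero] using hc⟩
    have hconst : ∀ g, F g = c := fun g => by rw [← hgf, hc, AlgHom.commutes, Algebra.algebraMap_self]; rfl
    show F g₀ = χ x
    rw [hconst, ← hconst (1 : WithConv (A →ₐ[k] k)).ofConv]
    show χ _ = χ x
    congr 1
    refine Subtype.ext (Subtype.ext ?_)
    show Comod.act k A W (1 : WithConv (A →ₐ[k] k)).ofConv * X * _ = X
    have h1 : Comod.act k A W (ptInv (1 : WithConv (A →ₐ[k] k)).ofConv) = 1 := by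
      have := act_mul_ptInv (W := W) (1 : WithConv (A →ₐ[k] k)).ofConv
      rwa [act_one, one_mul] at this
    rw [act_one, h1, one_mul, mul_one]
  have hsub : IsSubcomod (k := k) (A := A) N := isSubcomod_of_act fun g w hw => by
    rw [hN]
    intro x
    have h := (hN w).1 hw ⟨⟨_, act_conj_mem_lieImg (x : L).2 (toConv_mul_ptInv (ptInv g))⟩, hAd (ptInv g) x.1 x.2⟩
    rw [hkey] at h
    have hgg : Comod.act k A W (ptInv (ptInv g)) = Comod.act k A W g :=
      (left_inv_eq_right_inv (act_mul_ptInv g) (act_mul_ptInv (ptInv g))).symm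
    replace h : (Comod.act k A W (ptInv g) * ((x : L) : Module.End k W) * Comod.act k A W (ptInv (ptInv g))) w =
        χ x • w := h
    rw [hgg] at h
    have h2 := congrArg (Comod.act k A W g) h
    rwa [map_smul, ← Module.End.mul_apply, ← mul_assoc, ← mul_assoc, act_mul_ptInv, one_mul,
      Module.End.mul_apply] at h2
  rcases hW.2 N hsub with h | h
  · exact absurd (h ▸ hw₀ : w₀ ∈ (⊥ : Submodule k W)) (by simpa using hw₀0)
  · exact ⟨χ ⟨r, hr⟩, LinearMap.ext fun w => by
      simpa using (hN w).1 (h ▸ Submodule.mem_top) ⟨r, hr⟩⟩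

end Groth.Agent.RedLR15
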