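import Groth.Agent.Lib.RedLR15.Kernel
import Groth.Agent.Lib.Comodule.Basic
import Groth.Agent.Lib.TorPts21.Luna
import Groth.Agent.Lib.TorPts21.GeomIso
import Groth.Agent.Lib.TorPts21.UnipBorel
import Groth.Agent.Lib.TorPts21.RadicalImage
import Groth.Agent.Lib.UnipBC21.Basic
import Groth.Agent.Lib.BorelFix21.Pts

/-!
# Normal unipotent subgroups act trivially on semisimple representations
-/

set_option linter.style.haveILetI false
set_option backward.isDefEq.respectTransparency.types false

open TensorProduct HopfRep WithConv LieHopf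
open CategoryTheory Limits MonoidalCategory CartesianMonoidalCategory MonObj AlgebraicGeometry

universe u

noncomputable section

namespace Groth.Agent.RedLR15

attribute [local instance] InvRing21.gamAlg BorelFix21.ptsTop

open Groth.Agent.PsRefl28 (slice)
open Groth.Agent.Comodule (subComod isComodHom_subtype comodHom_apply)

variable {k : Type u} [Field k] {A : Type u} [CommRing A] [HopfAlgebra k A]

theorem act_comodHom {V V' : Type u} [AddCommGroup V] [Module k V] [Comod k A V] [AddCommGroup V'] [Module k V']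
    [Comod k A V'] {f : V →ₗ[k] V'} (hf : Hoch.IsComodHom A f) (g : A →ₐ[k] k) (v : V) :
    f (Comod.act k A V g v) = Comod.act k A V' g (f v) := by
  simp only [Comod.act, LinearMap.comp_apply, LinearEquiv.coe_coe, comodHom_apply hf]
  generalize Comod.coact (k := k) (A := A) v = z
  induction z with
  | zero => simp
  | add p q hp hq => simp only [map_add, hp, hq]
  | tmul x a => simp

theorem act_mem_of_isSubcomod {V : Type u} [AddCommGroup V] [Module k V] [Comod k A V] {W : Submodule k V}
    (hW : IsSubcomod (k := k) (A := A) W) (g : A →ₐ[k] k) {w : V} (hw : w ∈ W) : Comod.act k A V g w ∈ W := by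
  letI := subComod (A := A) W hW
  exact (act_comodHom (isComodHom_subtype W hW) g ⟨w, hw⟩) ▸ (Comod.act k A W g ⟨w, hw⟩).2

section Unipotent

variable {U : Over (Spec (CommRingCat.of k))} [GrpObj U] (i : U ⟶ CoactBr.sp k A) [IsMonHom i]

/-- The algebra map of a point of the subgroup. -/
def ptHomOf (u : VecGrp.pt k k ⟶ U) : A →ₐ[k] k := (exists_gp (u ≫ i)).choose

omit [IsMonHom i] in
theorem gp_ptHomOf (u : VecGrp.pt k k ⟶ U) : gp (ptHomOf i u) = u ≫ i := (exists_gp (u ≫ i)).choose_spec

/-- The action of the points of the subgroup. -/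
def actOf (W : Type u) [AddCommGroup W] [Module k W] [Comod k A W] : (VecGrp.pt k k ⟶ U) →* Module.End k W where
  toFun u := Comod.act k A W (ptHomOf i u)
  map_one' := by
    rw [← act_one (k := k) (A := A) (V := W)]
    congr 1
    apply gp_injective
    rw [gp_ptHomOf, MonObj.one_comp, gp_counit]
    congr 1
  map_mul' u v := by
    rw [act_mul_act]
    congr 1
    apply gp_injective
    rw [gp_ptHomOf, MonObj.mul_comp, gp_conv, gp_ptHomOf, gp_ptHomOf]

omit [IsMonHom i] in
theorem apply_act (W : Type u) [AddCommGroup W] [Module k W] [Comod k A W] (φ : W →ₗ[k] k) (w : W) :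
    ∃ F : Γ(U.left, ⊤), ∀ u : VecGrp.pt k k ⟶ U,
      φ (Comod.act k A W (ptHomOf i u) w) = InvRing21.val u F := by
  refine ⟨i.left.appTop ((Scheme.ΓSpecIso (CommRingCat.of A)).inv
    (slice φ (Comod.coact (k := k) (A := A) w))), fun u => ?_⟩
  have e : InvRing21.val u (i.left.appTop ((Scheme.ΓSpecIso (CommRingCat.of A)).inv
      (slice φ (Comod.coact (k := k) (A := A) w)))) =
      InvRing21.val (u ≫ i) ((Scheme.ΓSpecIso (CommRingCat.of A)).inv
        (slice φ (Comod.coact (k := k) (A := A) w))) := InvRing21.appTop_val u i _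
  rw [e, ← gp_ptHomOf, val_pt, ← dact_alg, dact_apply]
  exact (apply_slice φ (ptHomOf i u).toLinearMap _).symm

variable [IsAlgClosed k] [IsAffine U.left] [Smooth U.hom] [ConnectedSpace U.left]

set_option maxHeartbeats 800000 in
/-- A connected group without subtori fixes a nonzero vector of every representation. -/
theorem exists_fixed_vector (hU : Red.HasNoSubtorus k U) (W : Type u) [AddCommGroup W] [Module k W] [Comod k A W]
    [FiniteDimensional k W] [Nontrivial W] : ∃ w : W, w ≠ 0 ∧ ∀ u, actOf i W u w = w := by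
  obtain ⟨n, hn⟩ := Groth.Agent.TorPts21.isSolvableGrp_of_hasNoSubtorus U hU
  haveI : PreconnectedSpace (VecGrp.pt k k ⟶ U) := Groth.Agent.BorelFix21.preconnectedSpace_pts (G := U)
  obtain ⟨w, hw0, hw⟩ := Groth.Agent.BorelFix21.exists_eigvec (V := W) n (M := VecGrp.pt k k ⟶ U) (hn _)
    BorelFix21.continuous_mul_left BorelFix21.continuous_mul_right BorelFix21.continuous_inv
    BorelFix21.continuous_commutator (actOf i W) (fun v φ c => by
      obtain ⟨F, hF⟩ := apply_act i W φ v
      have e : {m : VecGrp.pt k k ⟶ U | φ (actOf i W m v) = c} = {m | InvRing21.val m F = c} := by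
        ext m
        show φ (Comod.act k A W (ptHomOf i m) v) = c ↔ _
        rw [hF]
        rfl
      rw [e]
      exact BorelFix21.isClosed_val_eq F c)
  choose c hc using hw
  obtain ⟨φ, hφ⟩ := Module.Projective.exists_dual_ne_zero k hw0
  obtain ⟨F, hF⟩ := apply_act i W φ w
  have hF' : ∀ u, InvRing21.val u F = c u * φ w := fun u => by
    rw [← hF]
    show φ (actOf i W u w) = _
    rw [hc, map_smul, smul_eq_mul]
  have hcmul : ∀ x y, c (x * y) = c x * c y := fun x y => by
    refine smul_left_injective k hw0 ?_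
    show c (x * y) • w = (c x * c y) • w
    rw [← hc, map_mul, Module.End.mul_apply, hc, map_smul, hc, smul_smul, mul_comm]
  have hc0 : ∀ x, c x ≠ 0 := fun x h => by
    have h1 : c (x⁻¹ * x) = 1 := by
      refine smul_left_injective k hw0 ?_
      show c (x⁻¹ * x) • w = (1 : k) • w
      rw [← hc, inv_mul_cancel, map_one, Module.End.one_apply, one_smul]
    rw [hcmul, h, mul_zero] at h1
    exact zero_ne_one h1
  have hval : ∀ u, InvRing21.val u ((algebraMap k Γ(U.left, ⊤) (φ w)⁻¹) * F) = c u := fun u => by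
    rw [map_mul, hF', AlgHom.commutes, Algebra.algebraMap_self, RingHom.id_apply, mul_comm (c u),
      inv_mul_cancel_left₀ hφ]
  refine ⟨w, hw0, fun u => ?_⟩
  have h1 := Groth.Agent.TorPts21.eq_one_of_char hU _
    (fun x y => by rw [hval, hval, hval, hcmul]) (fun x => by rw [hval]; exact hc0 x) u
  rw [hval] at h1
  rw [hc, h1, one_smul]

variable [Algebra.FiniteType k A] [IsReduced A]

/-- A normal subgroup without subtori acts trivially on semisimple representations. -/
theorem actOf_eq_one (hn : AlgGrp.IsNormalHom i) (hU : Red.HasNoSubtorus k U) (V : Type u) [AddCommGroup V]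
    [Module k V] [Comod k A V] [FiniteDimensional k V] (hss : IsSemisimpleComod k A V) (u : VecGrp.pt k k ⟶ U) :
    actOf i V u = 1 := by
  let F : Submodule k V := ⨅ u, LinearMap.eqLocus (actOf i V u) LinearMap.id
  have hmem : ∀ v, v ∈ F ↔ ∀ u, actOf i V u v = v := fun v => by
    simp only [F, Submodule.mem_iInf, LinearMap.mem_eqLocus, LinearMap.id_coe, id_eq]
  have hFsub : IsSubcomod (k := k) (A := A) F := isSubcomod_of_act fun g v hv => by
    rw [hmem] at hv ⊢
    intro u
    obtain ⟨u', hu'⟩ := hn _ (gp (ptInv g)) u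
    have e : toConv (ptHomOf i u) * toConv g = toConv g * toConv (ptHomOf i u') := by
      apply WithConv.ofConv_injective
      apply gp_injective
      rw [gp_conv, gp_conv, gp_ptHomOf, gp_ptHomOf, ← hu', gp_ptInv, inv_inv, ← _root_.mul_assoc,
        ← _root_.mul_assoc, mul_inv_cancel, _root_.one_mul]
    show Comod.act k A V (ptHomOf i u) (Comod.act k A V g v) = Comod.act k A V g v
    rw [← Module.End.mul_apply, act_mul_act, e, ← act_mul_act, Module.End.mul_apply]
    exact congrArg _ (hv u')
  obtain ⟨W, hW, hFW⟩ := hss F hFsub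
  rcases eq_or_ne W ⊥ with hWb | hWb
  · have hFt : F = ⊤ := eq_top_of_isCompl_bot (hWb ▸ hFW)
    exact LinearMap.ext fun v => (hmem v).1 (hFt ▸ Submodule.mem_top) u
  · exfalso
    letI := subComod (A := A) W hW
    haveI : Nontrivial W := Submodule.nontrivial_iff_ne_bot.2 hWb
    obtain ⟨w, hw0, hw⟩ := exists_fixed_vector i hU W
    have hwF : (w : V) ∈ F := (hmem _).2 fun u => by
      show Comod.act k A V (ptHomOf i u) (W.subtype w) = W.subtype w
      rw [← act_comodHom (isComodHom_subtype W hW)]
      exact congrArg W.subtype (hw u)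
    exact hw0 (Subtype.ext (Submodule.disjoint_def.1 hFW.disjoint _ hwF w.2))

end Unipotent

variable [IsAlgClosed k] [Algebra.FiniteType k A] [IsReduced A]

/-- A connected smooth group with a semisimple representation faithful on rational points is reductive. -/
theorem isReductiveOver_of_semisimple [Smooth (CoactBr.sp k A).hom] [ConnectedSpace (CoactBr.sp k A).left]
    (V : Type u) [AddCommGroup V] [Module k V] [Comod k A V] [FiniteDimensional k V]
    (hss : IsSemisimpleComod k A V)
    (hf : ∀ g : A →ₐ[k] k, Comod.act k A V g = 1 → g = Bialgebra.counitAlgHom k A) :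
    Red.IsReductiveOver k (CoactBr.sp k A) := by
  haveI : IsAffine (CoactBr.sp k A).left := inferInstanceAs (IsAffine (Spec (CommRingCat.of A)))
  refine ⟨inferInstance, inferInstance, inferInstance, fun U _ i _ hic his hicn hin hU => ?_⟩
  haveI := hic
  haveI := his
  haveI := hicn
  haveI : IsAffine U.left := isAffine_of_isAffineHom i.left
  haveI : Mono i := Over.mono_of_mono_left i
  refine Groth.Agent.TorPts21.isTrivialGrp_of_pts fun u => (cancel_mono i).1 ?_
  rw [MonObj.one_comp, gp_counit, ← gp_ptHomOf, hf _ (actOf_eq_one i hin hU V hss u)]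

section Iso

open Groth.Agent.DiagGL (fl fl_mul fl_comp fl_injective fl_surjective)

variable {K : Type u} [Field K] [IsAlgClosed K]

omit [Algebra.FiniteType k A] [IsReduced A] in
/-- Reductivity is insensitive to isomorphisms of the base field. -/
theorem isReductiveOver_bc_of_isIso (φ : Spec (CommRingCat.of K) ⟶ Spec (CommRingCat.of k)) [IsIso φ]
    {G : Over (Spec (CommRingCat.of k))} [GrpObj G] (hG : Red.IsReductiveOver k G) :
    Red.IsReductiveOver K (Red.bc φ G) := by
  obtain ⟨hGa, hGs, hGc, hGU⟩ := hG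
  haveI := hGa
  haveI := hGs
  haveI : IsAffine (Red.bc φ G).left := BorelFix21.isAffine_bc φ G
  haveI : Smooth (Red.bc φ G).hom := BorelFix21.smooth_bc φ G
  refine ⟨inferInstance, inferInstance, (TorPts21.connectedSpace_pullback_iff φ).2 hGc,
    fun U _ i _ hic his hicn hin hU => ?_⟩
  haveI := hic
  haveI := his
  haveI := hicn
  haveI : IsAffine U.left := isAffine_of_isAffineHom i.left
  let ψ := inv φ
  let ι₀ : ∀ X : Over (Spec (CommRingCat.of k)), (Over.map φ).obj ((Over.map ψ).obj X) ≅ X := fun X =>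
    Over.isoMk (Iso.refl _) (by
      show 𝟙 _ ≫ X.hom = (X.hom ≫ ψ) ≫ φ
      rw [Category.id_comp, Category.assoc, IsIso.inv_hom_id, Category.comp_id])
  let c : ∀ {X : Over (Spec (CommRingCat.of k))}, (X ⟶ Red.bc ψ U) → (X ⟶ G) := fun {X} x =>
    (ι₀ X).inv ≫ fl φ G (fl ψ U x ≫ i)
  have hcmul : ∀ {X : Over (Spec (CommRingCat.of k))} (x y : X ⟶ Red.bc ψ U), c (x * y) = c x * c y := fun x y => by
    simp only [c, fl_mul, MonObj.mul_comp, MonObj.comp_mul]
  have hcn : ∀ {X Y : Over (Spec (CommRingCat.of k))} (t : X ⟶ Y) (y : Y ⟶ Red.bc ψ U), c (t ≫ y) = t ≫ c y :=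
    fun {X Y} t y => by
      simp only [c]
      rw [show fl ψ U (t ≫ y) ≫ i = (Over.map ψ).map t ≫ (fl ψ U y ≫ i) by rw [fl_comp, Category.assoc],
        fl_comp, ← Category.assoc, ← Category.assoc]
      congr 1
  let i' : Red.bc ψ U ⟶ G := c (𝟙 _)
  have hi' : ∀ {X : Over (Spec (CommRingCat.of k))} (x : X ⟶ Red.bc ψ U), x ≫ i' = c x := fun x => by
    rw [← hcn, Category.comp_id]
  haveI : IsMonHom i' := TorsorSch25.isMonHom_of_points i' fun X x y => by rw [hi', hi', hi', hcmul]
  haveI : IsAffine (Red.bc ψ U).left := BorelFix21.isAffine_bc ψ U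
  haveI : Smooth (Red.bc ψ U).hom := BorelFix21.smooth_bc ψ U
  haveI : IsClosedImmersion i'.left := by
    have e : i'.left = pullback.fst U.hom ψ ≫ i.left ≫ pullback.fst G.hom φ := by
      simp [i', c, ι₀, fl, Adjunction.homEquiv_counit, Category.assoc]
    rw [e]
    infer_instance
  have hnorm : AlgGrp.IsNormalHom i' := fun X g x => by
    obtain ⟨g', hg'⟩ := fl_surjective φ G ((ι₀ X).hom ≫ g)
    obtain ⟨n', hn'⟩ := hin _ g' (fl ψ U x)
    obtain ⟨n, rfl⟩ := fl_surjective ψ U n'
    refine ⟨n, ?_⟩
    rw [hi', hi']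
    show g * ((ι₀ X).inv ≫ fl φ G (fl ψ U x ≫ i)) * g⁻¹ = (ι₀ X).inv ≫ fl φ G (fl ψ U n ≫ i)
    rw [← hn', fl_mul, fl_mul,
      show fl φ G g'⁻¹ = (fl φ G g')⁻¹ from map_inv (MonoidHom.mk' (fl φ G) (fl_mul φ G)) g', hg',
      MonObj.comp_mul, MonObj.comp_mul, GrpObj.comp_inv, Iso.inv_hom_id_assoc]
  exact TorPts21.trivial_of_bc ψ (hGU _ i' inferInstance inferInstance
    ((TorPts21.connectedSpace_pullback_iff ψ).2 hicn) hnorm (UnipBC21.hasNoSubtorus_bc ψ U hU))

end Iso

end Groth.Agent.RedLR15
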