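import Groth.Agent.Lib.RedLR15.BaseChange
import Groth.Agent.Lib.RedLR15.Converse
import Groth.Agent.Lib.FinGenH28.Basic

/-!
# Linearly reductive connected groups in characteristic zero are reductive
-/

set_option linter.style.haveILetI false
set_option backward.isDefEq.respectTransparency.types false

open TensorProduct HopfRep WithConv LieHopf
open CategoryTheory Limits MonoidalCategory CartesianMonoidalCategory MonObj AlgebraicGeometry

universe u

noncomputable section

namespace Groth.Agent.RedLR15

open Groth.Agent.Comodule (subComod isComodHom_subtype)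

section Faithful

variable {k : Type u} [Field k] {A : Type u} [CommRing A] [HopfAlgebra k A]

theorem counit_act_regular (g : A →ₐ[k] k) (x : A) :
    Bialgebra.counitAlgHom k A (Comod.act k A A g x) = g x := by
  have h := Coalgebra.rTensor_counit_comul (R := k) x
  show Bialgebra.counitAlgHom k A
    (TensorProduct.rid k A (LinearMap.lTensor A g.toLinearMap (CoalgebraStruct.comul (R := k) x))) = _
  have e : ∀ z : A ⊗[k] A, Bialgebra.counitAlgHom k A (TensorProduct.rid k A (LinearMap.lTensor A g.toLinearMap z)) =
      g (TensorProduct.lid k A (LinearMap.rTensor A Coalgebra.counit z)) := by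
    intro z
    induction z with
    | zero => simp
    | add p q hp hq => simp only [map_add, hp, hq]
    | tmul a b => simp [mul_comm]
  rw [e, h]
  simp

/-- A finite dimensional subrepresentation of the regular one, faithful on points. -/
theorem exists_faithful [Algebra.FiniteType k A] :
    ∃ V : Submodule k A, ∃ hV : IsSubcomod (k := k) (A := A) V, Module.Finite k V ∧
      ∀ g : A →ₐ[k] k, (letI := subComod (A := A) V hV; Comod.act k A V g = 1) →
        g = Bialgebra.counitAlgHom k A := by
  obtain ⟨s, hs⟩ := Algebra.FiniteType.out (R := k) (A := A)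
  obtain ⟨V, hV, hfin, hsV⟩ := Groth.Agent.FinGenH28.exists_finite_subcomod_finset (k := k) (A := A) s
  refine ⟨V, hV, hfin, fun g hg => AlgHom.ext_of_adjoin_eq_top hs fun x hx => ?_⟩
  letI := subComod (A := A) V hV
  have h2 : Comod.act k A A g (V.subtype ⟨x, hsV hx⟩) = V.subtype ⟨x, hsV hx⟩ := by
    rw [← act_comodHom (isComodHom_subtype V hV), hg]
    rfl
  rw [← counit_act_regular g x]
  exact congrArg (Bialgebra.counitAlgHom k A) h2

end Faithful

variable {k : Type u} [Field k] [CharZero k] {A : Type u} [CommRing A] [HopfAlgebra k A] [Algebra.FiniteType k A]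

/-- Linearly reductive over an algebraically closed field, connected: reductive. -/
theorem isReductiveOver_of_isLinearlyReductive [IsAlgClosed k] [ConnectedSpace (CoactBr.sp k A).left]
    (hA : IsLinearlyReductive k A) : Red.IsReductiveOver k (CoactBr.sp k A) := by
  haveI : IsReduced A := HopfRedH28.isReduced_of_charZero k A
  haveI := smooth_sp (k := k) A
  obtain ⟨V, hV, hfin, hf⟩ := exists_faithful (k := k) (A := A)
  letI := subComod (A := A) V hV
  haveI := hfin
  exact isReductiveOver_of_semisimple V (hA V hfin) hf

omit [CharZero k] [Algebra.FiniteType k A] in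
/-- Transfer along the base change comparison. -/
theorem isReductiveOver_bc (K : Type u) [Field K] [Algebra k K] [IsAlgClosed K]
    (h : Red.IsReductiveOver K (CoactBr.sp K (K ⊗[k] A))) :
    Red.IsReductiveOver K (Red.bc (Spec.map (CommRingCat.ofHom (algebraMap k K))) (CoactBr.sp k A)) := by
  obtain ⟨ha, hs, hc, -⟩ := id h
  haveI := ha
  haveI := hs
  haveI := hc
  haveI := isMonHom_bcCmp k A K
  haveI := isIso_bcCmp k A K
  let f := inv (bcCmp k A K)
  haveI : IsMonHom f :=
    { one_hom := by rw [IsIso.comp_inv_eq]; exact (IsMonHom.one_hom (bcCmp k A K)).symm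
      mul_hom := by
        rw [IsIso.comp_inv_eq, Category.assoc, IsMonHom.mul_hom (bcCmp k A K), ← Category.assoc,
          tensorHom_comp_tensorHom, IsIso.inv_hom_id, id_tensorHom_id, Category.id_comp] }
  haveI : IsIso (bcCmp k A K).left := inferInstanceAs (IsIso ((Over.forget _).map (bcCmp k A K)))
  haveI : IsIso f.left := inferInstanceAs (IsIso ((Over.forget _).map f))
  haveI : IsAffine (Red.bc (Spec.map (CommRingCat.ofHom (algebraMap k K))) (CoactBr.sp k A)).left :=
    .of_isIso (inv (bcCmp k A K).left)
  haveI : Smooth (Red.bc (Spec.map (CommRingCat.ofHom (algebraMap k K))) (CoactBr.sp k A)).hom := by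
    rw [← Over.w f]; infer_instance
  haveI : ConnectedSpace (Red.bc (Spec.map (CommRingCat.ofHom (algebraMap k K))) (CoactBr.sp k A)).left :=
    (Scheme.homeoOfIso (asIso f.left)).connectedSpace_iff.2 hc
  haveI : Subsingleton ↥(𝟙_ (Over (Spec (CommRingCat.of K)))).left :=
    inferInstanceAs (Subsingleton (PrimeSpectrum K))
  exact Groth.Agent.TorPts21.isReductiveOver_of_isogeny f
    ((Set.finite_range _).preimage (Scheme.homeoOfIso (asIso f.left)).injective.injOn) h

/-- Linearly reductive connected groups in characteristic zero are reductive. -/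
theorem isReductive_of_isLinearlyReductive [ConnectedSpace ↥(Spec (CommRingCat.of A))]
    (hA : IsLinearlyReductive k A) :
    Red.IsReductive ((Spec (CommRingCat.of A)).asOver (Spec (CommRingCat.of k))) := by
  refine ⟨inferInstanceAs (IsAffineHom (Spec.map (CommRingCat.ofHom (algebraMap k A)))), smooth_sp (k := k) A,
    fun s => ?_⟩
  let K := AlgebraicClosure ((Spec (CommRingCat.of k)).residueField s)
  letI : Algebra k K := (Spec.preimage (Red.geomPt s)).hom.toAlgebra
  have hq : Red.geomPt s = Spec.map (CommRingCat.ofHom (algebraMap k K)) := (Spec.map_preimage _).symm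
  haveI : CharZero K := charZero_of_injective_algebraMap (algebraMap k K).injective
  show Red.IsReductiveOver K (Red.bc (Red.geomPt s) (CoactBr.sp k A))
  rw [hq]
  haveI : ConnectedSpace (PrimeSpectrum A) := ‹ConnectedSpace ↥(Spec (CommRingCat.of A))›
  haveI : Nontrivial A := PrimeSpectrum.nonempty_iff_nontrivial.1 inferInstance
  haveI := formallySmooth_of_hopf (k := k) A
  haveI : IsDomain A := Groth.Agent.UnipConst20.isDomain_of_connected (k := k) A fun e he =>
    Groth.Agent.WeilRes21.idem_eq_zero_or_one he
  haveI : IsNoetherianRing A := Algebra.FiniteType.isNoetherianRing k A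
  haveI : Nontrivial (K ⊗[k] A) := (Bialgebra.counitAlgHom K (K ⊗[k] A)).toRingHom.domain_nontrivial
  haveI : ConnectedSpace (CoactBr.sp K (K ⊗[k] A)).left :=
    Groth.Agent.WeilRes21.connectedSpace_of_idem (E := K ⊗[k] A) (Groth.Agent.UnipConst20.idem_baseChange A K)
  exact isReductiveOver_bc K (isReductiveOver_of_isLinearlyReductive ((Groth.Agent.S18813.result k K A).1 hA))

end Groth.Agent.RedLR15
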