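import Mathlib.Algebra.Lie.CartanCriterion
import Mathlib.Algebra.Lie.OfAssociative
import Mathlib.Algebra.Lie.Semisimple.Basic
import Mathlib.Algebra.Lie.TraceForm
import Mathlib.Algebra.Lie.Engel
import Mathlib.LinearAlgebra.Matrix.Dual

/-!
# Whitehead's first lemma through a Casimir operator
-/

set_option linter.style.haveILetI false

open LinearMap Module

universe u w

noncomputable section

namespace Groth.Agent.RedLR15

attribute [local instance 100] LieRing.ofAssociativeRing

variable {k : Type u} [Field k] [CharZero k] {W : Type w} [AddCommGroup W] [Module k W] [FiniteDimensional k W]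

/-- The trace form of a Lie algebra of endomorphisms. -/
def trForm (L : LieSubalgebra k (Module.End k W)) : LinearMap.BilinForm k L :=
  LinearMap.mk₂ k (fun x y => LinearMap.trace k W ((x : Module.End k W) * (y : Module.End k W)))
    (fun x x' y => by simp [add_mul]) (fun c x y => by simp) (fun x y y' => by simp [mul_add]) (fun c x y => by simp)

omit [CharZero k] [FiniteDimensional k W] in
theorem trForm_apply (L : LieSubalgebra k (Module.End k W)) (x y : L) :
    trForm L x y = LinearMap.trace k W ((x : Module.End k W) * (y : Module.End k W)) := rfl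

omit [CharZero k] [FiniteDimensional k W] in
theorem trForm_comm (L : LieSubalgebra k (Module.End k W)) (x y : L) : trForm L x y = trForm L y x :=
  LinearMap.trace_mul_comm k _ _

omit [CharZero k] [FiniteDimensional k W] in
theorem trForm_lie (L : LieSubalgebra k (Module.End k W)) (x y z : L) :
    trForm L ⁅x, y⁆ z = - trForm L y ⁅x, z⁆ := by
  simp only [trForm_apply, LieSubalgebra.coe_bracket, Ring.lie_def, sub_mul, mul_sub, map_sub, mul_assoc]
  have h := LinearMap.trace_mul_comm k (x : Module.End k W) ((y : Module.End k W) * (z : Module.End k W))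
  rw [mul_assoc] at h
  linear_combination h

theorem trForm_nondegenerate (L : LieSubalgebra k (Module.End k W)) [LieAlgebra.HasTrivialRadical k L] :
    (trForm L).Nondegenerate := by
  let I : LieIdeal k L :=
    { toSubmodule := LinearMap.ker (trForm L)
      lie_mem := fun {x y} hy => by
        have hy' : trForm L y = 0 := hy
        refine LinearMap.mem_ker.2 (LinearMap.ext fun z => ?_)
        rw [trForm_lie, hy', LinearMap.zero_apply, LinearMap.zero_apply, neg_zero] }
  have hI : I = ⊥ := by
    refine LieAlgebra.HasTrivialRadical.eq_bot_of_isSolvable I (hI := ?_)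
    have htf : LieModule.traceForm k I W = 0 := by
      refine LinearMap.ext fun x => LinearMap.ext fun y => ?_
      exact LinearMap.congr_fun (show trForm L x.1 = 0 from x.2) y.1
    have hnil := LieModule.isNilpotent_derivedSeries_of_traceForm_eq_zero htf
    haveI hN : LieRing.IsNilpotent (LieAlgebra.derivedSeries k I 1) := by
      rw [LieAlgebra.isNilpotent_iff_forall (R := k)]
      intro x
      have h1 : IsNilpotent (LieModule.toEnd k (LieAlgebra.derivedSeries k I 1) W x) :=
        (LieModule.isNilpotent_iff_forall' (R := k)).1 hnil x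
      let f : (LieAlgebra.derivedSeries k I 1) →ₗ[k] Module.End k W :=
        (LieModule.toEnd k (LieAlgebra.derivedSeries k I 1) W).toLinearMap
      have hf : Function.Injective f := fun a b h =>
        Subtype.ext (Subtype.ext (Subtype.ext h))
      obtain ⟨n, hn⟩ := LieAlgebra.ad_nilpotent_of_nilpotent (R := k) h1
      refine ⟨n, LinearMap.ext fun y => hf ?_⟩
      have hcomm : f.comp (LieAlgebra.ad k (LieAlgebra.derivedSeries k I 1) x) =
          (LieAlgebra.ad k (Module.End k W) (f x)).comp f := LinearMap.ext fun z => by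
        simp only [LinearMap.comp_apply, LieAlgebra.ad_apply, f, LieHom.coe_toLinearMap, LieHom.map_lie]
      have hp := LinearMap.congr_fun (Module.End.commute_pow_left_of_commute hcomm.symm n) y
      simp only [LinearMap.comp_apply] at hp
      rw [LinearMap.zero_apply, map_zero, ← hp,
        show (LieAlgebra.ad k (Module.End k W) (f x)) ^ n = 0 from hn]
      rfl
    obtain ⟨m, hm⟩ := LieAlgebra.IsSolvable.solvable k (LieAlgebra.derivedSeries k I 1)
    rw [LieIdeal.derivedSeries_eq_bot_iff] at hm
    refine LieAlgebra.IsSolvable.mk (R := k) (k := m + 1) ?_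
    rw [LieAlgebra.derivedSeries_def, LieAlgebra.derivedSeriesOfIdeal_add]
    exact hm
  refine (LinearMap.IsRefl.nondegenerate_iff_separatingLeft (fun x y h => by rwa [trForm_comm])).2 ?_
  refine LinearMap.separatingLeft_iff_ker_eq_bot.2 ?_
  rw [eq_bot_iff]
  intro x hx
  have : x ∈ I := hx
  rw [hI] at this
  exact this

variable {ι : Type} [Fintype ι] [DecidableEq ι]

omit [CharZero k] [FiniteDimensional k W] in
theorem sum_dual_eq {P : Type*} [AddCommGroup P] [Module k P] {M : Type*} [AddCommGroup M] [Module k M]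
    (B : LinearMap.BilinForm k P) (b d : Basis ι k P) (hd : ∀ i j, B (d i) (b j) = if j = i then 1 else 0)
    {b' d' : ι → P} (hb' : ⊤ ≤ Submodule.span k (Set.range b')) (hd' : ∀ i j, B (d' i) (b' j) = if j = i then 1 else 0)
    (Φ : P →ₗ[k] P →ₗ[k] M) :
    ∑ i, Φ (b' i) (d' i) = ∑ i, Φ (b i) (d i) := by
  have e1 : ∀ p, p = ∑ j, B (d j) p • b j := fun p => by
    conv_lhs => rw [← b.sum_repr p]
    refine Finset.sum_congr rfl fun j _ => ?_
    congr 1
    conv_rhs => rw [← b.sum_repr p]
    simp only [map_sum, map_smul, hd, smul_eq_mul, mul_ite, mul_one, mul_zero, Finset.sum_ite_eq', Finset.mem_univ,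
      if_true]
  have e2 : ∀ p, p = ∑ i, B (d' i) p • b' i := fun p => by
    obtain ⟨c, rfl⟩ := (Submodule.mem_span_range_iff_exists_fun k).1 (hb' (Submodule.mem_top (x := p)))
    refine Finset.sum_congr rfl fun i _ => ?_
    congr 1
    simp only [map_sum, map_smul, hd', smul_eq_mul, mul_ite, mul_one, mul_zero, Finset.sum_ite_eq', Finset.mem_univ,
      if_true]
  have e3 : ∀ q, q = ∑ j, B q (b j) • d j := fun q => by
    conv_lhs => rw [← d.sum_repr q]
    refine Finset.sum_congr rfl fun j _ => ?_
    congr 1
    conv_rhs => rw [← d.sum_repr q]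
    simp only [map_sum, map_smul, LinearMap.coe_sum, Finset.sum_apply, LinearMap.smul_apply, hd, smul_eq_mul,
      mul_ite, mul_one, mul_zero, Finset.sum_ite_eq, Finset.mem_univ, if_true]
  have hbd : ∀ j, ∑ i, B (d' i) (b j) • b' i = b j := fun j => (e2 _).symm
  calc ∑ i, Φ (b' i) (d' i) = ∑ i, ∑ j, B (d' i) (b j) • Φ (b' i) (d j) := by
        refine Finset.sum_congr rfl fun i _ => ?_
        conv_lhs => rw [e3 (d' i)]
        simp only [map_sum, map_smul]
    _ = ∑ j, ∑ i, B (d' i) (b j) • Φ (b' i) (d j) := Finset.sum_comm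
    _ = ∑ j, Φ (b j) (d j) := by
        refine Finset.sum_congr rfl fun j _ => ?_
        conv_rhs => rw [← hbd j]
        simp only [map_sum, map_smul, LinearMap.coe_sum, Finset.sum_apply, LinearMap.smul_apply]

omit [CharZero k] [FiniteDimensional k W] [DecidableEq ι] in
/-- The `ad`-invariance of the Casimir tensor. -/
theorem sum_ad_eq_zero [DecidableEq ι] (L : LieSubalgebra k (Module.End k W)) (b d : Basis ι k L)
    (hd : ∀ i j, trForm L (d i) (b j) = if j = i then 1 else 0) {M : Type*} [AddCommGroup M] [Module k M]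
    (Φ : L →ₗ[k] L →ₗ[k] M) (y : L) :
    ∑ i, (Φ ⁅y, b i⁆ (d i) + Φ (b i) ⁅y, d i⁆) = 0 := by
  have e1 : ∀ p, p = ∑ j, trForm L (d j) p • b j := fun p => by
    conv_lhs => rw [← b.sum_repr p]
    refine Finset.sum_congr rfl fun j _ => ?_
    congr 1
    conv_rhs => rw [← b.sum_repr p]
    simp only [map_sum, map_smul, hd, smul_eq_mul, mul_ite, mul_one, mul_zero, Finset.sum_ite_eq', Finset.mem_univ,
      if_true]
  have e3 : ∀ q, q = ∑ j, trForm L q (b j) • d j := fun q => by
    conv_lhs => rw [← d.sum_repr q]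
    refine Finset.sum_congr rfl fun j _ => ?_
    congr 1
    conv_rhs => rw [← d.sum_repr q]
    simp only [map_sum, map_smul, LinearMap.coe_sum, Finset.sum_apply, LinearMap.smul_apply, hd, smul_eq_mul,
      mul_ite, mul_one, mul_zero, Finset.sum_ite_eq, Finset.mem_univ, if_true]
  have h1 : ∀ i, Φ ⁅y, b i⁆ (d i) = ∑ j, trForm L (d j) ⁅y, b i⁆ • Φ (b j) (d i) := fun i => by
    conv_lhs => rw [e1 ⁅y, b i⁆]
    simp only [map_sum, map_smul, LinearMap.coe_sum, Finset.sum_apply, LinearMap.smul_apply]
  have h2 : ∀ i, Φ (b i) ⁅y, d i⁆ = ∑ j, trForm L ⁅y, d i⁆ (b j) • Φ (b i) (d j) := fun i => by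
    conv_lhs => rw [e3 ⁅y, d i⁆]
    simp only [map_sum, map_smul]
  simp only [h1, h2, Finset.sum_add_distrib]
  rw [Finset.sum_comm (f := fun i j => trForm L ⁅y, d i⁆ (b j) • Φ (b i) (d j)), ← Finset.sum_add_distrib]
  refine Finset.sum_eq_zero fun i _ => ?_
  rw [← Finset.sum_add_distrib]
  refine Finset.sum_eq_zero fun j _ => ?_
  rw [← add_smul, trForm_lie L y (d j) (b i), add_neg_cancel, zero_smul]

/-- Whitehead's first lemma for a Lie algebra of endomorphisms with nondegenerate trace form and
scalar commutant of its normaliser. -/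
theorem exists_coboundary (L : LieSubalgebra k (Module.End k W)) (hL : (trForm L).Nondegenerate)
    (Gam : Set (Module.End k W × Module.End k W)) (hinv : ∀ p ∈ Gam, p.1 * p.2 = 1 ∧ p.2 * p.1 = 1)
    (hst : ∀ p ∈ Gam, ∀ x ∈ L, p.1 * x * p.2 ∈ L)
    (hschur : ∀ T : Module.End k W, (∀ p ∈ Gam, p.1 * T = T * p.1) → ∃ t : k, T = t • 1)
    (c : L →ₗ[k] W) (hc : ∀ x y : L, c ⁅x, y⁆ = (x : Module.End k W) (c y) - (y : Module.End k W) (c x)) :
    ∃ v : W, ∀ x : L, c x = (x : Module.End k W) v := by
  classical
  rcases subsingleton_or_nontrivial L with hL0 | hL0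
  · exact ⟨0, fun x => by rw [Subsingleton.elim x 0, map_zero, map_zero]⟩
  let b := Module.finBasis k L
  let d := LinearMap.BilinForm.dualBasis (trForm L) hL b
  have hd : ∀ i j, trForm L (d i) (b j) = if j = i then 1 else 0 := fun i j =>
    LinearMap.BilinForm.apply_dualBasis_left hL b i j
  let mulΦ : L →ₗ[k] L →ₗ[k] Module.End k W :=
    (LinearMap.mul k (Module.End k W)).compl₁₂ L.toSubmodule.subtype L.toSubmodule.subtype
  let Om : Module.End k W := ∑ i, mulΦ (b i) (d i)
  have hmul : ∀ x y : L, mulΦ x y = (x : Module.End k W) * (y : Module.End k W) := fun x y => rfl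
  have hcomm : ∀ p ∈ Gam, p.1 * Om = Om * p.1 := by
    intro p hp
    obtain ⟨h1, h2⟩ := hinv p hp
    let ad : L →ₗ[k] L :=
      { toFun := fun x => ⟨p.1 * (x : Module.End k W) * p.2, hst p hp x.1 x.2⟩
        map_add' := fun x y => Subtype.ext (by simp [mul_add, add_mul])
        map_smul' := fun t x => Subtype.ext (by simp) }
    have hinj : Function.Injective ad := fun x y h => by
      have h' := congrArg (fun z : L => p.2 * (z : Module.End k W) * p.1) h
      simp only [ad, LinearMap.coe_mk, AddHom.coe_mk] at h'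
      refine Subtype.ext ?_
      simpa [← mul_assoc, h2, mul_assoc _ p.2 p.1] using h'
    have hsurj : Function.Surjective ad := (LinearMap.injective_iff_surjective).1 hinj
    have hform : ∀ x y, trForm L (ad x) (ad y) = trForm L x y := fun x y => by
      simp only [trForm_apply, ad, LinearMap.coe_mk, AddHom.coe_mk]
      rw [LinearMap.trace_mul_comm]
      rw [show p.1 * (y : Module.End k W) * p.2 * (p.1 * (x : Module.End k W) * p.2) =
        p.1 * ((y : Module.End k W) * (x : Module.End k W)) * p.2 by
          simp only [mul_assoc]; rw [← mul_assoc p.2 p.1, h2, one_mul]]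
      rw [LinearMap.trace_mul_comm, ← mul_assoc, h2, one_mul, LinearMap.trace_mul_comm]
    have hspan : ⊤ ≤ Submodule.span k (Set.range fun i => ad (b i)) := by
      rw [show (fun i => ad (b i)) = ad ∘ b from rfl, Set.range_comp, Submodule.span_image, b.span_eq,
        Submodule.map_top, LinearMap.range_eq_top.2 hsurj]
    have h := sum_dual_eq (trForm L) b d hd hspan (d' := fun i => ad (d i))
      (fun i j => by rw [hform, hd]) mulΦ
    have hOm : p.1 * Om * p.2 = Om := by
      refine Eq.trans ?_ h
      simp only [Om, Finset.mul_sum, Finset.sum_mul]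
      refine Finset.sum_congr rfl fun i _ => ?_
      simp only [hmul, ad, LinearMap.coe_mk, AddHom.coe_mk, mul_assoc]
      rw [← mul_assoc p.2 p.1, h2, one_mul]
    conv_rhs => rw [← hOm]
    rw [mul_assoc, mul_assoc, h2, mul_one]
  obtain ⟨t, ht⟩ := hschur Om hcomm
  have htr : LinearMap.trace k W Om = (Module.finrank k L : k) := by
    simp only [Om, map_sum]
    have : ∀ i, LinearMap.trace k W (mulΦ (b i) (d i)) = 1 := fun i => by
      rw [hmul, ← trForm_apply, trForm_comm, hd, if_pos rfl]
    simp [this]
  have ht0 : t ≠ 0 := by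
    intro h0
    rw [ht, h0, zero_smul, map_zero, eq_comm] at htr
    exact (Module.finrank_pos (R := k) (M := L)).ne' (by exact_mod_cast htr)
  let w0 : W := ∑ i, (b i : Module.End k W) (c (d i))
  refine ⟨t⁻¹ • w0, fun y => ?_⟩
  let evc : L →ₗ[k] L →ₗ[k] W :=
    (LinearMap.id (R := k) (M := Module.End k W)).compl₁₂ L.toSubmodule.subtype c
  have hz := sum_ad_eq_zero L b d hd evc y
  have hev : ∀ x z : L, evc x z = (x : Module.End k W) (c z) := fun x z => rfl
  have key : (y : Module.End k W) w0 = t • c y := by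
    calc (y : Module.End k W) w0
        = ∑ i, ((evc ⁅y, b i⁆ (d i) + evc (b i) ⁅y, d i⁆) + (b i : Module.End k W) ((d i : Module.End k W) (c y))) := by
          simp only [w0, map_sum]
          refine Finset.sum_congr rfl fun i _ => ?_
          simp only [hev, LieSubalgebra.coe_bracket, Ring.lie_def, LinearMap.sub_apply, Module.End.mul_apply, hc, map_sub]
          abel
      _ = Om (c y) := by
          rw [Finset.sum_add_distrib, hz, zero_add]
          simp only [Om, LinearMap.coe_sum, Finset.sum_apply, hmul, Module.End.mul_apply]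
      _ = t • c y := by rw [ht]; rfl
  rw [map_smul, key, inv_smul_smul₀ ht0]

/-- Whitehead's lemma when the radical consists of scalars. -/
theorem exists_coboundary_of_radical_le_scalar (L : LieSubalgebra k (Module.End k W))
    (hR : ∀ r ∈ LieAlgebra.radical k L, ∃ t : k, (r : Module.End k W) = t • 1)
    (Gam : Set (Module.End k W × Module.End k W)) (hinv : ∀ p ∈ Gam, p.1 * p.2 = 1 ∧ p.2 * p.1 = 1)
    (hst : ∀ p ∈ Gam, ∀ x ∈ L, p.1 * x * p.2 ∈ L)
    (hschur : ∀ T : Module.End k W, (∀ p ∈ Gam, p.1 * T = T * p.1) → ∃ t : k, T = t • 1)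
    (c : L →ₗ[k] W) (hc : ∀ x y : L, c ⁅x, y⁆ = (x : Module.End k W) (c y) - (y : Module.End k W) (c x)) :
    ∃ v : W, ∀ x : L, c x = (x : Module.End k W) v := by
  by_cases h1 : (1 : Module.End k W) ∈ L
  · refine ⟨c ⟨1, h1⟩, fun x => ?_⟩
    have h0 : ⁅(⟨1, h1⟩ : L), x⁆ = 0 := Subtype.ext (by simp [Ring.lie_def])
    have h := hc ⟨1, h1⟩ x
    rw [h0, map_zero, eq_comm, sub_eq_zero] at h
    simpa using h
  · haveI : LieAlgebra.HasTrivialRadical k L := by
      rw [LieAlgebra.hasTrivialRadical_iff, eq_bot_iff]
      intro r hr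
      obtain ⟨t, ht⟩ := hR r hr
      refine (LieSubmodule.mem_bot r).2 (Subtype.ext ?_)
      rcases eq_or_ne t 0 with rfl | htne
      · simpa using ht
      · exact absurd (by
          have := L.smul_mem t⁻¹ r.2
          rwa [ht, inv_smul_smul₀ htne] at this) h1
    exact exists_coboundary L (trForm_nondegenerate L) Gam hinv hst hschur c hc

end Groth.Agent.RedLR15
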