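import Groth.Agent.Lib.RedLR15.Kernel
import Groth.Agent.Lib.RedLR15.Casimir
import Groth.Agent.Lib.Comodule.Basic
import Groth.Agent.Lib.HopfMod.Ideal
import Groth.Agent.Lib.UnipConst20.Basic
import Groth.Agent.Lib.WeilRes21.Connected
import Groth.Agent.S16709

/-!
# Reductive groups over an algebraically closed field of characteristic zero are linearly reductive
-/

set_option linter.style.haveILetI false
set_option backward.isDefEq.respectTransparency.types false

open TensorProduct HopfRep WithConv LieHopf AlgebraicGeometry CategoryTheory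

universe u

noncomputable section

namespace Groth.Agent.RedLR15

attribute [local instance 100] LieRing.ofAssociativeRing

open Groth.Agent.Comodule (subComod isComodHom_subtype comodHom_apply isSubcomod_ker isSubcomod_comap_subtype
  rTensor_coactRestrict)

variable {k : Type u} [Field k] {A : Type u} [CommRing A] [HopfAlgebra k A]

section Hom

variable {V V' : Type u} [AddCommGroup V] [Module k V] [Comod k A V] [AddCommGroup V'] [Module k V'] [Comod k A V']

theorem dact_comodHom {f : V →ₗ[k] V'} (hf : Hoch.IsComodHom A f) (P : A →ₗ[k] k) (v : V) :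
    f (dact A V P v) = dact A V' P (f v) := by
  rw [dact_apply, dact_apply, comodHom_apply hf]
  generalize Comod.coact (k := k) (A := A) v = z
  induction z with
  | zero => simp
  | add p q hp hq => simp only [map_add, hp, hq]
  | tmul x a => simp

theorem dact_of_invariant {π : V →ₗ[k] k}
    (hπ : ∀ v, π.rTensor A (Comod.coact (k := k) (A := A) v) = π v ⊗ₜ[k] (1 : A)) (P : A →ₗ[k] k) (v : V) :
    π (dact A V P v) = P 1 * π v := by
  have h : ∀ z : V ⊗[k] A, π (TensorProduct.rid k V (LinearMap.lTensor V P z)) =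
      TensorProduct.rid k k (LinearMap.lTensor k P (π.rTensor A z)) := by
    intro z
    induction z with
    | zero => simp
    | add p q hp hq => simp only [map_add, hp, hq]
    | tmul x a => simp
  rw [dact_apply, h, hπ]
  simp

end Hom

variable [IsAlgClosed k] [CharZero k] [Algebra.FiniteType k A]

/-- The core case: the kernel is a simple comodule. -/
theorem exists_fixed_of_simple [IsDomain A] (hG : Red.IsReductiveOver k (CoactBr.sp k A))
    (V : Type u) [AddCommGroup V] [Module k V] [Comod k A V] [FiniteDimensional k V]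
    (π : V →ₗ[k] k) (e₀ : V) (he₀ : π e₀ = 1)
    (hπ : ∀ v, π.rTensor A (Comod.coact (k := k) (A := A) v) = π v ⊗ₜ[k] (1 : A))
    (hK : IsSubcomod (k := k) (A := A) (LinearMap.ker π))
    (hsimp : letI := subComod (A := A) (LinearMap.ker π) hK; IsSimpleComod k A (LinearMap.ker π)) :
    ∃ v ∈ fixedPts k A V, π v ≠ 0 := by
  classical
  letI := subComod (A := A) (LinearMap.ker π) hK
  let W := LinearMap.ker π
  have hι : Hoch.IsComodHom A W.subtype := isComodHom_subtype W hK
  have hres : ∀ (P : A →ₗ[k] k) (w : W), ((dact A W P w : W) : V) = dact A V P (w : V) := fun P w =>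
    dact_comodHom hι P w
  -- derivations send `e₀` into `W`
  let D : Submodule k (A →ₗ[k] k) :=
    { carrier := {d | IsDer d}
      zero_mem' := isDer_zero
      add_mem' := fun h h' => IsDer.add h h'
      smul_mem' := fun c _ h => IsDer.smul h c }
  have hDW : ∀ d : D, dact A V (d : A →ₗ[k] k) e₀ ∈ W := fun d => by
    rw [LinearMap.mem_ker, dact_of_invariant hπ, IsDer.apply_one d.2, zero_mul]
  let φ : D →ₗ[k] W :=
    { toFun := fun d => ⟨dact A V (d : A →ₗ[k] k) e₀, hDW d⟩
      map_add' := fun d e => Subtype.ext (by simp)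
      map_smul' := fun c d => Subtype.ext (by simp) }
  let ψ : D →ₗ[k] lieImg (k := k) A W :=
    { toFun := fun d => ⟨dact A W (d : A →ₗ[k] k), d, d.2, rfl⟩
      map_add' := fun d e => Subtype.ext (by simp)
      map_smul' := fun c d => Subtype.ext (by simp) }
  have hWg : ∀ (g : A →ₐ[k] k), ∀ w ∈ W, Comod.act k A V g w ∈ W := fun g w hw => by
    rw [← dact_alg, ← hres g.toLinearMap ⟨w, hw⟩]
    exact SetLike.coe_mem _
  have he : ∀ g : A →ₐ[k] k, Comod.act k A V g e₀ - e₀ ∈ W := fun g => by
    rw [LinearMap.mem_ker, map_sub, ← dact_alg, dact_of_invariant hπ, AlgHom.toLinearMap_apply, map_one, one_mul,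
      sub_self]
  have hkill : ∀ d : D, ψ d = 0 → φ d = 0 := fun d hd => Subtype.ext
    (dact_eq_zero_of_kill hG W hWg e₀ he d.2 fun w hw => by
      have h := LinearMap.congr_fun (congrArg Subtype.val hd) ⟨w, hw⟩
      rw [← hres _ ⟨w, hw⟩]
      exact congrArg Subtype.val h)
  obtain ⟨σ, hσ⟩ := ψ.exists_rightInverse_of_surjective (LinearMap.range_eq_top.2 fun x => by
    obtain ⟨d, hd, hdx⟩ := x.2
    exact ⟨⟨d, hd⟩, Subtype.ext hdx⟩)
  let c : lieImg (k := k) A W →ₗ[k] W := φ ∘ₗ σ
  have hc : ∀ d : D, c (ψ d) = φ d := fun d => by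
    have hψ : ψ (σ (ψ d)) = ψ d := LinearMap.congr_fun hσ (ψ d)
    let a : D := ⟨(σ (ψ d) : A →ₗ[k] k) - (d : A →ₗ[k] k), D.sub_mem (σ (ψ d)).2 d.2⟩
    have ha : a + d = σ (ψ d) := Subtype.ext (sub_add_cancel _ _)
    have h1 : ψ a = 0 := by
      have := (ψ.map_add a d).symm.trans ((congrArg ψ ha).trans hψ)
      exact add_eq_right.1 this
    have h2 := congrArg φ ha
    rw [map_add, hkill a h1, zero_add] at h2
    exact h2.symm
  have hcoc : ∀ x y : lieImg (k := k) A W,
      c ⁅x, y⁆ = (x : Module.End k W) (c y) - (y : Module.End k W) (c x) := by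
    rintro ⟨_, d, hd, rfl⟩ ⟨_, e, he', rfl⟩
    let de : D := ⟨conv d e - conv e d, IsDer.comm hd he'⟩
    have h1 : ⁅(⟨dact A W d, d, hd, rfl⟩ : lieImg (k := k) A W), ⟨dact A W e, e, he', rfl⟩⁆ = ψ de :=
      Subtype.ext (show ⁅dact A W d, dact A W e⁆ = dact A W (conv d e - conv e d) by
        rw [map_sub, dact_conv, dact_conv, Ring.lie_def])
    rw [h1, hc]
    rw [show c ⟨dact A W e, e, he', rfl⟩ = φ ⟨e, he'⟩ from hc ⟨e, he'⟩,
      show c ⟨dact A W d, d, hd, rfl⟩ = φ ⟨d, hd⟩ from hc ⟨d, hd⟩]
    refine Subtype.ext ?_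
    rw [AddSubgroupClass.coe_sub, hres, hres]
    show dact A V (conv d e - conv e d) e₀ = dact A V d (dact A V e e₀) - dact A V e (dact A V d e₀)
    rw [map_sub, dact_conv, dact_conv]
    rfl
  obtain ⟨v, hv⟩ := exists_coboundary_of_radical_le_scalar (lieImg (k := k) A W)
    (fun r hr => radical_le_scalar hsimp r hr)
    (Set.range fun g : A →ₐ[k] k => (Comod.act k A W g, Comod.act k A W (ptInv g)))
    (by rintro _ ⟨g, rfl⟩; exact ⟨act_mul_ptInv g, act_ptInv_mul g⟩)
    (by rintro _ ⟨g, rfl⟩ x hx; exact act_conj_mem_lieImg hx (toConv_mul_ptInv g))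
    (fun T hT => exists_scalar_of_commute hsimp T fun g => hT _ ⟨g, rfl⟩) c hcoc
  refine ⟨e₀ - (v : V), mem_fixedPts_of_forall_der
    (fun e he => IsIdempotentElem.iff_eq_zero_or_one.1 he) (fun d hd => ?_), ?_⟩
  · have h := hv (ψ ⟨d, hd⟩)
    rw [hc] at h
    have h' : dact A V d e₀ = dact A V d (v : V) := by
      rw [← hres]
      exact congrArg Subtype.val h
    rw [map_sub, h', sub_self]
  · rw [map_sub, he₀, show π (v : V) = 0 from v.2, sub_zero]
    exact one_ne_zero

/-- Invariant linear forms take nonzero values on fixed vectors. -/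
theorem exists_fixed [IsDomain A] (hG : Red.IsReductiveOver k (CoactBr.sp k A)) :
    ∀ (n : ℕ) (V : Type u) [AddCommGroup V] [Module k V] [Comod k A V] [FiniteDimensional k V],
      Module.finrank k V ≤ n → ∀ π : V →ₗ[k] k, Function.Surjective π →
      (∀ v, π.rTensor A (Comod.coact (k := k) (A := A) v) = π v ⊗ₜ[k] (1 : A)) →
      ∃ v ∈ fixedPts k A V, π v ≠ 0 := by
  intro n
  induction n with
  | zero =>
    intro V _ _ _ _ hn π hπs hπ
    obtain ⟨e₀, he₀⟩ := hπs 1
    haveI : Subsingleton V := Module.finrank_zero_iff.1 (Nat.le_zero.1 hn)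
    rw [Subsingleton.elim e₀ 0, map_zero] at he₀
    exact absurd he₀ zero_ne_one
  | succ n ih =>
    intro V _ _ _ _ hn π hπs hπ
    obtain ⟨e₀, he₀⟩ := hπs 1
    have hK : IsSubcomod (k := k) (A := A) (LinearMap.ker π) := fun v hv =>
      (Groth.Agent.Comodule.mem_tens_ker_iff π _).2 (by rw [hπ, LinearMap.mem_ker.1 hv, TensorProduct.zero_tmul])
    by_cases hsimp : letI := subComod (A := A) (LinearMap.ker π) hK; IsSimpleComod k A (LinearMap.ker π)
    · exact exists_fixed_of_simple hG V π e₀ he₀ hπ hK hsimp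
    rcases eq_or_ne (LinearMap.ker π) ⊥ with hbot | hbot
    · -- the form is injective
      refine ⟨e₀, ?_, by rw [he₀]; exact one_ne_zero⟩
      show Comod.coact (k := k) (A := A) e₀ = e₀ ⊗ₜ[k] (1 : A)
      exact Module.Flat.rTensor_preserves_injective_linearMap (M := A) π (LinearMap.ker_eq_bot.1 hbot)
        ((hπ e₀).trans (LinearMap.rTensor_tmul _ _ _ _).symm)
    letI := subComod (A := A) (LinearMap.ker π) hK
    haveI : Nontrivial (LinearMap.ker π) := Submodule.nontrivial_iff_ne_bot.2 hbot
    obtain ⟨M, hM, hMb, hMt⟩ : ∃ M : Submodule k (LinearMap.ker π),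
        IsSubcomod (k := k) (A := A) M ∧ M ≠ ⊥ ∧ M ≠ ⊤ := by
      by_contra hcon
      exact hsimp ⟨inferInstance, fun M hM => by
        by_contra hne
        push Not at hne
        exact hcon ⟨M, hM, hne⟩⟩
    let W₁ : Submodule k V := M.map (LinearMap.ker π).subtype
    have hW₁ : IsSubcomod (k := k) (A := A) W₁ :=
      Groth.Agent.Comodule.isSubcomod_map (isComodHom_subtype _ hK) hM
    have hW₁le : W₁ ≤ LinearMap.ker π := Submodule.map_subtype_le _ _
    have hW₁bot : W₁ ≠ ⊥ := fun h => hMb (by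
      rw [← Submodule.comap_map_eq_of_injective (LinearMap.ker π).injective_subtype M]
      show W₁.comap _ = ⊥
      rw [h, Submodule.comap_bot, Submodule.ker_subtype])
    have hW₁K : Module.finrank k W₁ < Module.finrank k (LinearMap.ker π) := by
      refine lt_of_eq_of_lt ?_ (Submodule.finrank_lt hMt)
      exact (Submodule.equivMapOfInjective _ (LinearMap.ker π).injective_subtype M).finrank_eq.symm
    have hKV : Module.finrank k (LinearMap.ker π) + 1 = Module.finrank k V := by
      rw [← LinearMap.finrank_range_add_finrank_ker π, LinearMap.range_eq_top.2 hπs, finrank_top, Module.finrank_self,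
        add_comm]
    -- the quotient by `W₁`
    let ρ : V ⧸ W₁ →ₗ[k] (V ⧸ W₁) ⊗[k] A := W₁.liftQ (W₁.mkQ.rTensor A ∘ₗ Comod.coact (k := k) (A := A))
      fun w hw => by
        obtain ⟨y, hy⟩ := hW₁ w hw
        rw [LinearMap.mem_ker, LinearMap.comp_apply, ← hy, ← LinearMap.rTensor_comp_apply]
        rw [show W₁.mkQ ∘ₗ W₁.subtype = 0 from LinearMap.ext fun x => (Submodule.Quotient.mk_eq_zero W₁).2 x.2]
        simp
    letI : Comod k A (V ⧸ W₁) := Groth.Agent.HopfMod.quotComod W₁.mkQ W₁.mkQ_surjective ρ fun v => rfl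
    let π' : V ⧸ W₁ →ₗ[k] k := W₁.liftQ π hW₁le
    have hπ'π : π' ∘ₗ W₁.mkQ = π := W₁.liftQ_mkQ π hW₁le
    have hQlt : Module.finrank k (V ⧸ W₁) ≤ n := by
      have h := W₁.finrank_quotient_add_finrank
      have h0 : 0 < Module.finrank k W₁ := by
        rw [Module.finrank_pos_iff]
        exact Submodule.nontrivial_iff_ne_bot.2 hW₁bot
      omega
    obtain ⟨ē, hē, hπē⟩ := ih (V ⧸ W₁) hQlt π'
      (fun c => ⟨W₁.mkQ (c • e₀), by
        rw [← LinearMap.comp_apply, hπ'π, map_smul, he₀, smul_eq_mul, mul_one]⟩)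
      (fun q => by
        obtain ⟨v, rfl⟩ := W₁.mkQ_surjective q
        show π'.rTensor A (W₁.mkQ.rTensor A (Comod.coact (k := k) (A := A) v)) = _
        rw [← LinearMap.rTensor_comp_apply, ← LinearMap.comp_apply π' W₁.mkQ, hπ'π, hπ])
    obtain ⟨e, rfl⟩ := W₁.mkQ_surjective ē
    -- the preimage of the fixed line
    let V' : Submodule k V := W₁ ⊔ Submodule.span k {e}
    have hV' : IsSubcomod (k := k) (A := A) V' := by
      have hW₁' : ∀ z : V ⊗[k] A, W₁.mkQ.rTensor A z = 0 → z ∈ Groth.Agent.Comodule.tens A V' := fun z hz =>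
        Groth.Agent.Comodule.tens_mono le_sup_left
          (Submodule.ker_mkQ W₁ ▸ (Groth.Agent.Comodule.mem_tens_ker_iff W₁.mkQ z).2 hz)
      have hee : Comod.coact (k := k) (A := A) e ∈ Groth.Agent.Comodule.tens A V' := by
        have h1 := hW₁' (Comod.coact (k := k) (A := A) e - e ⊗ₜ[k] (1 : A)) (by
          rw [map_sub, LinearMap.rTensor_tmul, sub_eq_zero]
          exact hē)
        have h2 := Groth.Agent.Comodule.tmul_mem_tens (A := A)
          (show e ∈ V' from Submodule.mem_sup_right (Submodule.mem_span_singleton_self e)) (1 : A)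
        simpa using add_mem h1 h2
      intro x hx
      obtain ⟨w, hw, z, hz, rfl⟩ := Submodule.mem_sup.1 hx
      obtain ⟨c, rfl⟩ := Submodule.mem_span_singleton.1 hz
      rw [map_add, map_smul]
      exact add_mem (Groth.Agent.Comodule.tens_mono le_sup_left (hW₁ w hw)) (Submodule.smul_mem _ c hee)
    letI := subComod (A := A) V' hV'
    have hπe : π e ≠ 0 := by rwa [← hπ'π]
    have hV'lt : Module.finrank k V' ≤ n := by
      have h1 : Module.finrank k V' ≤ Module.finrank k W₁ + 1 := by
        refine (Submodule.finrank_add_le_finrank_add_finrank _ _).trans (Nat.add_le_add_left ?_ _)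
        exact finrank_span_le_card _ |>.trans (by simp)
      omega
    obtain ⟨v, hv, hπv⟩ := ih V' hV'lt (π ∘ₗ V'.subtype)
      (fun c => ⟨(c / π e) • ⟨e, Submodule.mem_sup_right (Submodule.mem_span_singleton_self e)⟩, by
        simp [div_mul_cancel₀ _ hπe]⟩)
      (fun x => by
        rw [LinearMap.rTensor_comp_apply]
        exact (congrArg (π.rTensor A) (rTensor_coactRestrict V' hV' x)).trans (hπ x))
    refine ⟨(v : V), ?_, hπv⟩
    show Comod.coact (k := k) (A := A) (v : V) = (v : V) ⊗ₜ[k] (1 : A)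
    rw [← rTensor_coactRestrict V' hV' v]
    exact congrArg (V'.subtype.rTensor A) hv

/-- A reductive group over an algebraically closed field of characteristic zero is linearly reductive. -/
theorem isLinearlyReductive_of_isReductiveOver (hG : Red.IsReductiveOver k (CoactBr.sp k A)) :
    IsLinearlyReductive k A := by
  obtain ⟨-, hGs, hGc, -⟩ := id hG
  haveI : ConnectedSpace (PrimeSpectrum A) := hGc
  haveI : Nontrivial A := by
    by_contra h
    rw [not_nontrivial_iff_subsingleton] at h
    exact (hGc.toNonempty).elim fun p => p.2.ne_top (Subsingleton.elim _ _)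
  haveI := formallySmooth_of_hopf (k := k) A
  haveI : IsDomain A := Groth.Agent.UnipConst20.isDomain_of_connected (k := k) A fun e he =>
    Groth.Agent.WeilRes21.idem_eq_zero_or_one he
  refine (Groth.Agent.S16709.result k A inferInstance).2 fun V _ _ _ hV π hπs hπ => ?_
  haveI := hV
  exact exists_fixed hG _ V le_rfl π hπs fun v => LinearMap.congr_fun hπ v

end Groth.Agent.RedLR15
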