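import Groth.Agent.Lib.RedLR15.Main
import Groth.Agent.Lib.MTRigid29.Model
import Groth.Agent.Lib.TorPts21.Isogeny
import Groth.Agent.S18813

/-!
# Reductive groups over a field of characteristic zero are linearly reductive
-/

set_option linter.style.haveILetI false
set_option backward.isDefEq.respectTransparency.types false

open TensorProduct HopfRep WithConv LieHopf
open CategoryTheory Limits MonoidalCategory CartesianMonoidalCategory MonObj AlgebraicGeometry

universe u

noncomputable section

namespace Groth.Agent.RedLR15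

/-- `Spec` is monoidal. -/
local instance (R : Type u) [CommRing R] : (algSpec (CommRingCat.of R)).Braided := braidedAlgSpec

open Groth.Agent.DiagGL (fl fl_mul fl_comp fl_injective)
open Groth.Agent.MTRigid29 (ptEquiv spIso)

variable (k : Type u) [Field k] (A : Type u) [CommRing A] [HopfAlgebra k A] (K : Type u) [Field K] [Algebra k K]

/-- The comparison of `Spec (K ⊗ A)` with the base change of `Spec A`. -/
def bcCmp : CoactBr.sp K (K ⊗[k] A) ⟶ Red.bc (Spec.map (CommRingCat.ofHom (algebraMap k K))) (CoactBr.sp k A) :=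
  (Over.mapPullbackAdj _).homEquiv _ _ ((spIso (R := k) (T := K) (K ⊗[k] A)).hom ≫
    CoactBr.pt (Algebra.TensorProduct.includeRight : A →ₐ[k] K ⊗[k] A))

theorem fl_bcCmp : fl (Spec.map (CommRingCat.ofHom (algebraMap k K))) (CoactBr.sp k A) (bcCmp k A K) =
    (spIso (R := k) (T := K) (K ⊗[k] A)).hom ≫
      CoactBr.pt (Algebra.TensorProduct.includeRight : A →ₐ[k] K ⊗[k] A) :=
  Equiv.symm_apply_apply _ _

theorem fl_pt_bcCmp {L : Type u} [CommRing L] [Algebra k L] [Algebra K L] [IsScalarTower k K L]
    (χ : K ⊗[k] A →ₐ[K] L) :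
    fl (Spec.map (CommRingCat.ofHom (algebraMap k K))) (CoactBr.sp k A) (CoactBr.pt χ ≫ bcCmp k A K) =
      (spIso (R := k) (T := K) L).hom ≫
        ptEquiv A L (toConv ((χ.restrictScalars k).comp Algebra.TensorProduct.includeRight)) := by
  rw [fl_comp, fl_bcCmp, Groth.Agent.MTRigid29.ptEquiv_apply, ofConv_toConv, CoactBr.pt_comp,
    ← Category.assoc, ← Category.assoc (spIso L).hom]
  congr 1

theorem restr_conv {L : Type u} [CommRing L] [Algebra k L] [Algebra K L] [IsScalarTower k K L]
    (χ ξ : K ⊗[k] A →ₐ[K] L) :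
    (((toConv χ * toConv ξ).ofConv).restrictScalars k).comp Algebra.TensorProduct.includeRight =
      (toConv ((χ.restrictScalars k).comp Algebra.TensorProduct.includeRight) *
        toConv ((ξ.restrictScalars k).comp Algebra.TensorProduct.includeRight)).ofConv := by
  refine AlgHom.ext fun a => ?_
  rw [AlgHom.convMul_apply]
  show (toConv χ * toConv ξ) ((1 : K) ⊗ₜ[k] a) = _
  rw [AlgHom.convMul_apply]
  simp only [TensorProduct.comul_tmul, CommSemiring.comul_apply]
  generalize CoalgebraStruct.comul (R := k) a = z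
  induction z with
  | zero => simp
  | add p q hp hq => simp only [TensorProduct.tmul_add, map_add, hp, hq]
  | tmul b c => simp

theorem bcCmp_mul {L : Type u} [CommRing L] [Algebra k L] [Algebra K L] [IsScalarTower k K L]
    (x y : CoactBr.sp K L ⟶ CoactBr.sp K (K ⊗[k] A)) :
    (x * y) ≫ bcCmp k A K = (x ≫ bcCmp k A K) * (y ≫ bcCmp k A K) := by
  obtain ⟨χ, rfl⟩ := (ptEquiv (K ⊗[k] A) L).surjective x
  obtain ⟨ξ, rfl⟩ := (ptEquiv (K ⊗[k] A) L).surjective y
  apply fl_injective
  rw [← map_mul, fl_mul]
  simp only [Groth.Agent.MTRigid29.ptEquiv_apply]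
  rw [fl_pt_bcCmp, fl_pt_bcCmp, fl_pt_bcCmp, ← MonObj.comp_mul, ← map_mul]
  rw [show χ * ξ = toConv χ.ofConv * toConv ξ.ofConv from rfl, restr_conv]

theorem isMonHom_bcCmp : IsMonHom (bcCmp k A K) := by
  let B := K ⊗[k] A
  have hone : (1 : 𝟙_ (Over (Spec (CommRingCat.of K))) ⟶ CoactBr.sp K B) ≫ bcCmp k A K = 1 := by
    haveI : IsIso (toUnit (CoactBr.sp K K)) := by
      haveI : IsIso ((Over.forget _).map (toUnit (CoactBr.sp K K))) := by
        show IsIso (Spec.map (CommRingCat.ofHom (algebraMap K K)))
        rw [Algebra.algebraMap_self, CommRingCat.ofHom_id, Spec.map_id]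
        infer_instance
      exact isIso_of_reflects_iso (toUnit (CoactBr.sp K K)) (Over.forget _)
    have h := bcCmp_mul k A K (L := K) 1 1
    rw [_root_.mul_one] at h
    have h1 : (1 : CoactBr.sp K K ⟶ CoactBr.sp K B) ≫ bcCmp k A K = 1 := mul_eq_left.1 h.symm
    rw [← cancel_epi (toUnit (CoactBr.sp K K)), ← Category.assoc, MonObj.comp_one, h1, MonObj.comp_one]
  constructor
  · rw [← MonObj.one_eq_one, ← MonObj.one_eq_one] at hone
    exact hone
  · let θ : CoactBr.sp K B ⊗ CoactBr.sp K B ≅ CoactBr.sp K (B ⊗[K] B) :=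
      Functor.Monoidal.μIso (algSpec (CommRingCat.of K)) (Opposite.op (CommAlgCat.of K B))
        (Opposite.op (CommAlgCat.of K B))
    rw [← cancel_epi θ.inv, MonObj.mul_eq_mul, ← Category.assoc θ.inv, MonObj.comp_mul, bcCmp_mul,
      MonObj.mul_eq_mul, MonObj.comp_mul, MonObj.comp_mul]
    simp only [tensorHom_fst, tensorHom_snd, Category.assoc]

theorem isIso_bcCmp : IsIso (bcCmp k A K) := by
  let e : pullback (Spec.map (CommRingCat.ofHom (algebraMap k A))) (Spec.map (CommRingCat.ofHom (algebraMap k K))) ≅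
      Spec (CommRingCat.of (K ⊗[k] A)) := pullbackSymmetry _ _ ≪≫ pullbackSpecIso k K A
  have h : (bcCmp k A K).left = e.inv := by
    have hfst : (bcCmp k A K).left ≫ pullback.fst _ _ =
        (fl (Spec.map (CommRingCat.ofHom (algebraMap k K))) (CoactBr.sp k A) (bcCmp k A K)).left := by
      simp [fl, Adjunction.homEquiv_counit]
    apply pullback.hom_ext
    · rw [hfst, fl_bcCmp]
      refine Eq.trans ?_ (show Spec.map (CommRingCat.ofHom
        (Algebra.TensorProduct.includeRight : A →ₐ[k] K ⊗[k] A).toRingHom) =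
          e.inv ≫ pullback.fst (Spec.map (CommRingCat.ofHom (algebraMap k A)))
            (Spec.map (CommRingCat.ofHom (algebraMap k K))) from by
        simp only [e, Iso.trans_inv, pullbackSymmetry_inv_comp_fst, Category.assoc]
        exact (pullbackSpecIso_inv_snd k K A).symm)
      exact Category.id_comp _
    · refine (Over.w (bcCmp k A K)).trans ?_
      show _ = e.inv ≫ pullback.snd (Spec.map (CommRingCat.ofHom (algebraMap k A)))
        (Spec.map (CommRingCat.ofHom (algebraMap k K)))
      simp only [e, Iso.trans_inv, pullbackSymmetry_inv_comp_snd, Category.assoc]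
      exact (pullbackSpecIso_inv_fst k K A).symm
  haveI : IsIso (bcCmp k A K).left := h ▸ (inferInstance : IsIso e.inv)
  haveI : IsIso ((Over.forget _).map (bcCmp k A K)) := ‹IsIso (bcCmp k A K).left›
  exact isIso_of_reflects_iso (bcCmp k A K) (Over.forget _)

variable [CharZero k] [Algebra.FiniteType k A]

/-- A reductive group over a field of characteristic zero is linearly reductive. -/
theorem isLinearlyReductive_of_isReductive
    (hG : Red.IsReductive ((Spec (CommRingCat.of A)).asOver (Spec (CommRingCat.of k)))) :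
    IsLinearlyReductive k A := by
  let s : ↥(Spec (CommRingCat.of k)) := IsLocalRing.closedPoint k
  let K := AlgebraicClosure ((Spec (CommRingCat.of k)).residueField s)
  have h := hG.2.2 s
  letI : Algebra k K := (Spec.preimage (Red.geomPt s)).hom.toAlgebra
  have hq : Red.geomPt s = Spec.map (CommRingCat.ofHom (algebraMap k K)) := (Spec.map_preimage _).symm
  haveI : CharZero K := charZero_of_injective_algebraMap (algebraMap k K).injective
  have h' : Red.IsReductiveOver K (Red.bc (Spec.map (CommRingCat.ofHom (algebraMap k K))) (CoactBr.sp k A)) := by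
    rw [← hq]
    exact h
  obtain ⟨ha, hs, hc, -⟩ := id h'
  haveI := ha
  haveI := hs
  haveI := isMonHom_bcCmp k A K
  haveI := isIso_bcCmp k A K
  haveI : IsIso (bcCmp k A K).left := inferInstanceAs (IsIso ((Over.forget _).map (bcCmp k A K)))
  haveI : Smooth (CoactBr.sp K (K ⊗[k] A)).hom := by rw [← Over.w (bcCmp k A K)]; infer_instance
  haveI : IsAffine (CoactBr.sp K (K ⊗[k] A)).left :=
    inferInstanceAs (IsAffine (Spec (CommRingCat.of (K ⊗[k] A))))
  haveI : ConnectedSpace (CoactBr.sp K (K ⊗[k] A)).left :=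
    (Scheme.homeoOfIso (asIso (bcCmp k A K).left)).connectedSpace_iff.2 hc
  haveI : Subsingleton ↥(𝟙_ (Over (Spec (CommRingCat.of K)))).left :=
    inferInstanceAs (Subsingleton (PrimeSpectrum K))
  have hker : {x | (bcCmp k A K).left x ∈ Set.range η[Red.bc (Spec.map (CommRingCat.ofHom (algebraMap k K)))
      (CoactBr.sp k A)].left}.Finite :=
    (Set.finite_range _).preimage (Scheme.homeoOfIso (asIso (bcCmp k A K).left)).injective.injOn
  have hred : Red.IsReductiveOver K (CoactBr.sp K (K ⊗[k] A)) :=
    Groth.Agent.TorPts21.isReductiveOver_of_isogeny (bcCmp k A K) hker h'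
  exact (Groth.Agent.S18813.result k K A).2 (isLinearlyReductive_of_isReductiveOver hred)

end Groth.Agent.RedLR15
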