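import Groth.Agent.Lib.RedLR15.Scalar
import Groth.Agent.Lib.TorPts21.RadicalChar
import Groth.Agent.Lib.TorPts21.RadicalImage
import Groth.Agent.Lib.TorPts21.Structure
import Groth.Agent.Lib.InvRing21.Points
import Groth.Agent.Lib.UniStr23.Good
import Groth.Agent.Lib.BorelFix21.Component
import Groth.Agent.Lib.HopfRedH28.Basic

/-!
# A derivation killing an irreducible subrepresentation kills an extension of it by a trivial one
-/

set_option linter.style.haveILetI false
set_option backward.isDefEq.respectTransparency.types false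

open TensorProduct HopfRep WithConv LieHopf
open CategoryTheory MonoidalCategory CartesianMonoidalCategory MonObj AlgebraicGeometry

universe u

noncomputable section

namespace Groth.Agent.RedLR15

attribute [local instance] InvRing21.gamAlg BorelFix21.ptsTop

open Groth.Agent.PsRefl28 (slice stab slice_tmul isHopfIdeal_stab)

variable {k : Type u} [Field k]

/-- The rational point given by an algebra map, typed as a point. -/
def gp {C : Type u} [CommRing C] [Algebra k C] (χ : C →ₐ[k] k) : VecGrp.pt k k ⟶ CoactBr.sp k C := CoactBr.pt χ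

theorem gp_comp {B C : Type u} [CommRing B] [Algebra k B] [CommRing C] [Algebra k C] (φ : B →ₐ[k] C)
    (χ : C →ₐ[k] k) : gp (χ.comp φ) = gp χ ≫ CoactBr.pt φ := CoactBr.pt_comp φ χ

theorem gp_injective {C : Type u} [CommRing C] [Algebra k C] : Function.Injective (gp (k := k) (C := C)) :=
  fun _ _ h => UniStr23.pt_injective h

theorem exists_gp {C : Type u} [CommRing C] [HopfAlgebra k C] (z : VecGrp.pt k k ⟶ CoactBr.sp k C) :
    ∃ χ : C →ₐ[k] k, gp χ = z := UniStr23.exists_pt z

theorem gp_conv {C : Type u} [CommRing C] [HopfAlgebra k C] (g h : C →ₐ[k] k) :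
    gp (toConv g * toConv h).ofConv = gp g * gp h := by
  refine (congrArg CoactBr.pt ?_).trans (CoactBr.pt_mul_pt g h).symm
  apply AlgHom.ext
  intro c
  rw [AlgHom.convMul_apply]
  rfl

theorem gp_ptInv {C : Type u} [CommRing C] [HopfAlgebra k C] (g : C →ₐ[k] k) :
    gp (ptInv g) = (gp g)⁻¹ := (CoactBr.pt_inv g).symm

theorem gp_counit (C : Type u) [CommRing C] [HopfAlgebra k C] :
    (1 : VecGrp.pt k k ⟶ CoactBr.sp k C) = gp (Bialgebra.counitAlgHom k C) :=
  CoactBr.one_eq_pt.trans (congrArg CoactBr.pt (AlgHom.ext fun _ => rfl))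

theorem val_pt {C : Type u} [CommRing C] [Algebra k C] (χ : C →ₐ[k] k) (c : C) :
    InvRing21.val (gp χ) ((Scheme.ΓSpecIso (CommRingCat.of C)).inv c) = χ c := by
  show ((Scheme.ΓSpecIso (CommRingCat.of C)).inv ≫ (Spec.map (CommRingCat.ofHom χ.toRingHom)).appTop ≫
    (Scheme.ΓSpecIso (CommRingCat.of k)).hom) c = _
  rw [Scheme.ΓSpecIso_naturality, Iso.inv_hom_id_assoc]
  rfl

variable [IsAlgClosed k] [CharZero k] {A : Type u} [CommRing A] [HopfAlgebra k A] [Algebra.FiniteType k A]
  {E : Type u} [AddCommGroup E] [Module k E] [Comod k A E] [FiniteDimensional k E]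

omit [IsAlgClosed k] in
theorem smooth_sp (C : Type u) [CommRing C] [HopfAlgebra k C] [Algebra.FiniteType k C] :
    Smooth (CoactBr.sp k C).hom := by
  let G := (Spec (CommRingCat.of C)).asOver (Spec (CommRingCat.of k))
  haveI : LocallyOfFiniteType G.hom := by
    show LocallyOfFiniteType (Spec.map (CommRingCat.ofHom (algebraMap k C)))
    rw [HasRingHomProperty.Spec_iff (P := @LocallyOfFiniteType)]
    exact RingHom.finiteType_algebraMap.2 inferInstance
  exact Groth.Agent.Cartier.smooth_of_charZero (K := k) G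

set_option maxHeartbeats 800000 in
/-- If a derivation kills the subrepresentation `W` and `e` is fixed modulo `W`, it kills `e`. -/
theorem dact_eq_zero_of_kill (hG : Red.IsReductiveOver k (CoactBr.sp k A)) (W : Submodule k E)
    (hW : ∀ (g : A →ₐ[k] k), ∀ w ∈ W, Comod.act k A E g w ∈ W) (e₀ : E)
    (he₀ : ∀ g : A →ₐ[k] k, Comod.act k A E g e₀ - e₀ ∈ W) {d : A →ₗ[k] k} (hd : IsDer d)
    (hdW : ∀ w ∈ W, dact A E d w = 0) : dact A E d e₀ = 0 := by
  classical
  obtain ⟨hGa, hGs, hGc, -⟩ := id hG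
  haveI := hGa
  haveI := hGs
  haveI := hGc
  -- the kernel of the action on `W`
  obtain ⟨s, hs⟩ : W.FG := IsNoetherian.noetherian W
  let J : Ideal A := stab (k := k) A (0 : E) ⊔ s.sup fun w => stab (k := k) A w
  haveI : (stab (k := k) A (0 : E)).IsHopfIdeal k := isHopfIdeal_stab _
  haveI hJ : J.IsHopfIdeal k := isHopfIdeal_finsetSup s _ (fun w _ => isHopfIdeal_stab w) _
  have hJker : ∀ g : A →ₐ[k] k, J ≤ RingHom.ker g ↔ ∀ w ∈ W, Comod.act k A E g w = w := by
    intro g
    constructor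
    · intro h w hw
      rw [← hs] at hw
      induction hw using Submodule.span_induction with
      | mem x hx =>
        exact (stab_le_ker_iff g x).1
          (((Finset.le_sup (f := fun w => stab (k := k) A w) hx).trans le_sup_right).trans h)
      | zero => exact map_zero _
      | add x y _ _ hx hy => rw [map_add, hx, hy]
      | smul c x _ hx => rw [map_smul, hx]
    · intro h
      exact sup_le ((stab_le_ker_iff g 0).2 (map_zero _))
        (Finset.sup_le fun w hw => (stab_le_ker_iff g w).2 (h w (hs ▸ Submodule.subset_span hw)))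
  have hdJ : ∀ x ∈ J, d x = 0 := by
    have h : J ≤ Ideal.span ((Set.range fun φ : E →ₗ[k] k =>
        slice φ (Comod.coact (k := k) (A := A) (0 : E) - (0 : E) ⊗ₜ[k] (1 : A))) ∪
        ⋃ w ∈ s, Set.range fun φ : E →ₗ[k] k => slice φ (Comod.coact (k := k) (A := A) w - w ⊗ₜ[k] (1 : A))) := by
      refine sup_le (Ideal.span_mono Set.subset_union_left) (Finset.sup_le fun w hw => ?_)
      exact Ideal.span_mono fun x hx => Or.inr (Set.mem_iUnion₂.2 ⟨w, hw, hx⟩)
    intro x hx
    refine hd.eq_zero_of_mem_span ?_ (h hx)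
    rintro y (⟨φ, rfl⟩ | hy)
    · refine ⟨counit_slice_sub φ _, ?_⟩
      rw [apply_slice_coact_sub, map_zero, smul_zero, sub_zero, map_zero]
    · obtain ⟨w, hw, φ, rfl⟩ := Set.mem_iUnion₂.1 hy
      refine ⟨counit_slice_sub φ _, ?_⟩
      rw [apply_slice_coact_sub, hdW w (hs ▸ Submodule.subset_span hw), hd.apply_one, zero_smul, sub_zero, map_zero]
  let C := A ⧸ J
  haveI : Algebra.FiniteType k C := Algebra.FiniteType.of_surjective (Ideal.Quotient.mkₐ k J) Ideal.Quotient.mk_surjective
  let q : A →ₐc[k] C := Bialgebra.Quotient.mkBialgHom (R := k) J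
  let i : CoactBr.sp k C ⟶ CoactBr.sp k A := CoactBr.pt (q : A →ₐ[k] C)
  haveI : IsMonHom i := UniStr23.isMonHom_pt q
  haveI : IsClosedImmersion i.left :=
    IsClosedImmersion.spec_of_surjective (CommRingCat.ofHom (q : A →ₐ[k] C).toRingHom) Ideal.Quotient.mk_surjective
  haveI := smooth_sp (k := k) C
  haveI : IsAffine (CoactBr.sp k C).left := inferInstanceAs (IsAffine (Spec (CommRingCat.of C)))
  haveI : LocallyOfFiniteType (CoactBr.sp k C).hom := inferInstance
  have hmem : ∀ g : A →ₐ[k] k, (∃ z : VecGrp.pt k k ⟶ CoactBr.sp k C, z ≫ i = gp g) ↔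
      ∀ w ∈ W, Comod.act k A E g w = w := by
    intro g
    rw [← hJker]
    constructor
    · rintro ⟨z, hz⟩ x hx
      obtain ⟨χ, rfl⟩ := exists_gp z
      rw [← gp_comp] at hz
      rw [RingHom.mem_ker, ← gp_injective hz, AlgHom.comp_apply]
      exact (congrArg χ (Ideal.Quotient.eq_zero_iff_mem.2 hx : (q : A →ₐ[k] C) x = 0)).trans (map_zero χ)
    · intro h
      refine ⟨gp (Ideal.Quotient.liftₐ J g fun x hx => h hx), ?_⟩
      rw [← gp_comp]
      congr 1
  -- the identity component of the kernel is normal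
  obtain ⟨K₀, _, j, hjm, hjo, hK₀⟩ := BorelFix21.exists_identity_component (CoactBr.sp k C)
  haveI := hjm
  haveI := hjo
  haveI := hK₀
  haveI : IsClosedImmersion j.left := InvRing21.isClosedImmersion_of_open_subgroup j
  haveI : Smooth K₀.hom := InvRing21.smooth_of_openImmersion j
  haveI : IsAffine K₀.left := isAffine_of_isAffineHom j.left
  haveI : IsClosedImmersion (j ≫ i).left := by rw [Over.comp_left]; infer_instance
  have hnorm : AlgGrp.IsNormalHom (j ≫ i) := TorPts21.isNormalHom_of_pts _ fun g x => by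
    obtain ⟨g₀, hg₀⟩ := TorPts21.exists_gpt g
    have hK : ∀ z : VecGrp.pt k k ⟶ CoactBr.sp k C, ∃ z' : VecGrp.pt k k ⟶ CoactBr.sp k C,
        z' ≫ i = g * (z ≫ i) * g⁻¹ := by
      intro z
      obtain ⟨γ₁, hγ₁⟩ := exists_gp g
      obtain ⟨z₁, hz₁⟩ := exists_gp (z ≫ i)
      have hz : ∀ w ∈ W, Comod.act k A E z₁ w = w := (hmem z₁).1 ⟨z, hz₁.symm⟩
      obtain ⟨z', hz'⟩ := (hmem (toConv γ₁ * toConv z₁ * toConv (ptInv γ₁)).ofConv).2 fun w hw => by
        have hm : Comod.act k A E (toConv γ₁ * toConv z₁ * toConv (ptInv γ₁)).ofConv =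
            Comod.act k A E γ₁ * Comod.act k A E z₁ * Comod.act k A E (ptInv γ₁) := by
          rw [act_mul_act, act_mul_act, toConv_ofConv]
        rw [hm, Module.End.mul_apply, Module.End.mul_apply, hz _ (hW _ w hw), ← Module.End.mul_apply,
          act_mul_ptInv, Module.End.one_apply]
      refine ⟨z', ?_⟩
      rw [hz', ← hγ₁, ← hz₁, ← gp_ptInv, ← gp_conv, ← gp_conv, toConv_ofConv]
    -- conjugation keeps the identity component
    haveI := TorPts21.isMonHom_conjBy g₀ (j ≫ i)
    haveI := TorPts21.isClosedImmersion_conjBy g₀ (j ≫ i)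
    obtain ⟨c, hc⟩ := TorPts21.exists_lift_of_pts i (AGF.conjBy g₀ (j ≫ i)) fun y => by
      obtain ⟨y', hy'⟩ := hK (y ≫ j)
      refine ⟨y', ?_⟩
      rw [hy', TorPts21.comp_conjBy, show toUnit (VecGrp.pt k k) ≫ g₀ = g from hg₀, Category.assoc]
    haveI : Mono i := Over.mono_of_mono_left i
    haveI : IsMonHom c := BorelFix21.isMonHom_of_comp i c (hc.symm ▸ inferInstance)
    obtain ⟨c', hc'⟩ := TorPts21.exists_lift_open j c
    refine ⟨x ≫ c', ?_⟩
    rw [Category.assoc, ← Category.assoc c', hc', hc, TorPts21.comp_conjBy,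
      show toUnit (VecGrp.pt k k) ≫ g₀ = g from hg₀]
  have hred : Red.IsReductiveOver k K₀ := TorPts21.isReductiveOver_normal hG hnorm
  obtain ⟨ind, hind⟩ := InvRing21.exists_indicator j j.left.isClosedEmbedding.isClosed_range
  obtain ⟨ec, hec⟩ : ∃ c : C, (Scheme.ΓSpecIso (CommRingCat.of C)).inv c = ind :=
    (ConcreteCategory.bijective_of_isIso (Scheme.ΓSpecIso (CommRingCat.of C)).inv).2 ind
  obtain ⟨eA, rfl⟩ := Ideal.Quotient.mk_surjective ec
  refine (Module.forall_dual_apply_eq_zero_iff k _).1 fun φ => ?_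
  let f : A := slice φ (Comod.coact (k := k) (A := A) e₀ - e₀ ⊗ₜ[k] (1 : A))
  have hfval : ∀ g : A →ₐ[k] k, g f = φ (Comod.act k A E g e₀ - e₀) := fun g => by
    have h := apply_slice_coact_sub φ g.toLinearMap e₀
    rwa [AlgHom.toLinearMap_apply, AlgHom.toLinearMap_apply, map_one, one_smul, dact_alg] at h
  let fK : Γ((CoactBr.sp k C).left, ⊤) := (Scheme.ΓSpecIso (CommRingCat.of C)).inv (Ideal.Quotient.mk J f)
  have hval : ∀ χ : C →ₐ[k] k, InvRing21.val (gp χ) fK =
      φ (Comod.act k A E (χ.comp (q : A →ₐ[k] C)) e₀ - e₀) := fun χ => by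
    rw [← hfval]
    exact val_pt χ _
  have hzero : j.left.appTop fK = 0 := TorPts21.eq_zero_of_additive hred _ fun x y => by
    obtain ⟨χ, hχ⟩ := exists_gp (x ≫ j)
    obtain ⟨ξ, hξ⟩ := exists_gp (y ≫ j)
    have hmul : (x * y) ≫ j = gp (toConv χ * toConv ξ).ofConv := by
      rw [MonObj.mul_comp, ← hχ, ← hξ, gp_conv]
    simp only [InvRing21.appTop_val, ← hχ, ← hξ, hmul, hval]
    have hq : (toConv χ * toConv ξ).ofConv.comp (q : A →ₐ[k] C) =
        (toConv (χ.comp (q : A →ₐ[k] C)) * toConv (ξ.comp (q : A →ₐ[k] C))).ofConv := by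
      apply gp_injective
      rw [gp_comp, gp_conv, gp_conv, gp_comp, gp_comp]
      exact MonObj.mul_comp _ _ i
    have hfix : ∀ w ∈ W, Comod.act k A E (χ.comp (q : A →ₐ[k] C)) w = w :=
      (hmem _).1 ⟨gp χ, (gp_comp _ _).symm⟩
    rw [hq, ← act_mul_act, Module.End.mul_apply]
    rw [← φ.map_add]
    congr 1
    have h2 := hfix _ (he₀ (ξ.comp (q : A →ₐ[k] C)))
    rw [map_sub, sub_eq_iff_eq_add] at h2
    rw [h2]
    abel
  have hprod : Ideal.Quotient.mk J (f * eA) = 0 := by
    haveI : IsReduced C := HopfRedH28.isReduced_of_charZero k C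
    refine eq_zero_of_forall_pts (k := k) fun χ => ?_
    rw [map_mul, map_mul, ← val_pt χ (Ideal.Quotient.mk J f), ← val_pt χ (Ideal.Quotient.mk J eA), hec]
    by_cases h : ∃ y, y ≫ j = gp χ
    · obtain ⟨y, hy⟩ := h
      rw [show (Scheme.ΓSpecIso (CommRingCat.of C)).inv (Ideal.Quotient.mk J f) = fK from rfl, ← hy]
      have e : InvRing21.val (y ≫ j) fK = InvRing21.val y (j.left.appTop fK) := (InvRing21.appTop_val y j fK).symm
      rw [e, hzero, map_zero, zero_mul]
    · rw [(hind _).2 h, mul_zero]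
  have hεe : Bialgebra.counitAlgHom k A eA = 1 := by
    have h1 : ∃ y, y ≫ j = gp (Bialgebra.counitAlgHom k C) :=
      ⟨1, (MonObj.one_comp j).trans (gp_counit C)⟩
    have h2 := (hind _).1 h1
    rw [← hec, val_pt] at h2
    exact h2
  have hεf : Bialgebra.counitAlgHom k A f = 0 := counit_slice_sub φ e₀
  have h3 := hdJ _ (Ideal.Quotient.eq_zero_iff_mem.1 hprod)
  rw [hd, hεf, hεe, zero_mul, zero_add, _root_.one_mul] at h3
  rw [show f = slice φ (Comod.coact (k := k) (A := A) e₀ - e₀ ⊗ₜ[k] (1 : A)) from rfl, apply_slice_coact_sub,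
    hd.apply_one, zero_smul, sub_zero] at h3
  exact h3

end Groth.Agent.RedLR15
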