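import Groth.Prelude.Def_HopfRep
import Groth.Prelude.Def_Lie2
import Mathlib.RingTheory.HopfAlgebra.Convolution
import Mathlib.Algebra.Lie.Subalgebra
import Mathlib.Algebra.Lie.OfAssociative

/-!
# Counit derivations acting on comodules
-/

set_option linter.style.haveILetI false

open TensorProduct HopfRep WithConv LieHopf

universe u w

noncomputable section

namespace Groth.Agent.RedLR15

attribute [local instance 100] LieRing.ofAssociativeRing

variable {k : Type u} [Field k] {A : Type u} [CommRing A] [HopfAlgebra k A]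

/-- A linear functional is an `ε`-derivation. -/
def IsDer (d : A →ₗ[k] k) : Prop :=
  ∀ a b : A, d (a * b) = Bialgebra.counitAlgHom k A a * d b + Bialgebra.counitAlgHom k A b * d a

theorem isDer_lie (D : LieHopf.Lie k A) : IsDer (k := k) (A := A) (D.toLinearMap.restrictScalars k) := fun a b =>
  D.leibniz a b

theorem IsDer.apply_one {d : A →ₗ[k] k} (hd : IsDer d) : d 1 = 0 := by
  have h : d 1 = d 1 + d 1 := by simpa using hd 1 1
  exact left_eq_add.1 h

theorem IsDer.smul {d : A →ₗ[k] k} (hd : IsDer d) (c : k) : IsDer (c • d) := fun a b => by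
  simp only [LinearMap.smul_apply, hd a b, smul_eq_mul]
  ring

theorem IsDer.add {d e : A →ₗ[k] k} (hd : IsDer d) (he : IsDer e) : IsDer (d + e) := fun a b => by
  simp only [LinearMap.add_apply, hd a b, he a b]
  ring

theorem isDer_zero : IsDer (0 : A →ₗ[k] k) := fun a b => by simp

/-- A derivation kills an ideal when it kills generators lying in the augmentation ideal. -/
theorem IsDer.eq_zero_of_mem_span {d : A →ₗ[k] k} (hd : IsDer d) {S : Set A}
    (hS : ∀ s ∈ S, Bialgebra.counitAlgHom k A s = 0 ∧ d s = 0) {x : A} (hx : x ∈ Ideal.span S) : d x = 0 := by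
  suffices Bialgebra.counitAlgHom k A x = 0 ∧ d x = 0 from this.2
  induction hx using Submodule.span_induction with
  | mem s hs => exact hS s hs
  | zero => simp
  | add a b _ _ ha hb => simp only [map_add, ha.1, ha.2, hb.1, hb.2, add_zero, and_self]
  | smul c a _ ha => simp only [smul_eq_mul, map_mul, hd c a, ha.1, ha.2, mul_zero, zero_mul, add_zero, and_self]

theorem conv_apply (P Q : A →ₗ[k] k) (a : A) :
    conv P Q a = LinearMap.mul' k k (TensorProduct.map P Q (CoalgebraStruct.comul (R := k) a)) := rfl

theorem conv_mul_apply (P Q : A →ₗ[k] k) {ι κ : Type} (I : Finset ι) (J : Finset κ)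
    (P₁ P₂ : ι → (A →ₗ[k] k)) (Q₁ Q₂ : κ → (A →ₗ[k] k))
    (hP : ∀ a b, P (a * b) = ∑ i ∈ I, P₁ i a * P₂ i b) (hQ : ∀ a b, Q (a * b) = ∑ j ∈ J, Q₁ j a * Q₂ j b)
    (a b : A) :
    conv P Q (a * b) = ∑ i ∈ I, ∑ j ∈ J, conv (P₁ i) (Q₁ j) a * conv (P₂ i) (Q₂ j) b := by
  simp only [conv_apply, Bialgebra.comul_mul]
  generalize CoalgebraStruct.comul (R := k) a = z
  generalize CoalgebraStruct.comul (R := k) b = w
  induction z with
  | zero => simp
  | add z z' hz hz' => simp only [add_mul, map_add, hz, hz', Finset.sum_add_distrib]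
  | tmul a₁ a₂ =>
    induction w with
    | zero => simp
    | add w w' hw hw' => simp only [mul_add, map_add, hw, hw', Finset.sum_add_distrib]
    | tmul b₁ b₂ =>
      simp only [Algebra.TensorProduct.tmul_mul_tmul, TensorProduct.map_tmul, LinearMap.mul'_apply, hP, hQ,
        Finset.sum_mul, Finset.mul_sum]
      rw [Finset.sum_comm]
      exact Finset.sum_congr rfl fun i _ => Finset.sum_congr rfl fun j _ => by ring

theorem conv_alg_alg (g h : A →ₐ[k] k) :
    conv g.toLinearMap h.toLinearMap = (toConv g * toConv h).ofConv.toLinearMap := by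
  refine LinearMap.ext fun a => ?_
  rw [conv_apply, AlgHom.toLinearMap_apply, AlgHom.convMul_apply]
  generalize CoalgebraStruct.comul (R := k) a = z
  induction z with
  | zero => simp
  | tmul x y => simp
  | add z z' hz hz' => simp only [map_add, hz, hz']

theorem conv_counit (P : A →ₗ[k] k) : conv P (Bialgebra.counitAlgHom k A).toLinearMap = P := by
  refine LinearMap.ext fun a => ?_
  have h := congrArg (fun z => LinearMap.mul' k k (LinearMap.rTensor k P z))
    (Coalgebra.lTensor_counit_comul (R := k) a)
  simp only [LinearMap.rTensor_tmul, LinearMap.mul'_apply, mul_one] at h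
  rw [conv_apply, ← h, ← LinearMap.comp_apply (LinearMap.rTensor k P), LinearMap.rTensor_comp_lTensor]
  rfl

theorem counit_conv (P : A →ₗ[k] k) : conv (Bialgebra.counitAlgHom k A).toLinearMap P = P := by
  refine LinearMap.ext fun a => ?_
  have h := congrArg (fun z => LinearMap.mul' k k (LinearMap.lTensor k P z))
    (Coalgebra.rTensor_counit_comul (R := k) a)
  simp only [LinearMap.lTensor_tmul, LinearMap.mul'_apply, one_mul] at h
  rw [conv_apply, ← h, ← LinearMap.comp_apply (LinearMap.lTensor k P), LinearMap.lTensor_comp_rTensor]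
  rfl

/-- The commutator of two derivations is a derivation. -/
theorem IsDer.comm {d e : A →ₗ[k] k} (hd : IsDer d) (he : IsDer e) : IsDer (conv d e - conv e d) := by
  intro a b
  let ε : A →ₗ[k] k := (Bialgebra.counitAlgHom k A).toLinearMap
  have key : ∀ {f : A →ₗ[k] k}, IsDer f → ∀ x y, f (x * y) =
      ∑ i ∈ (Finset.univ : Finset (Fin 2)), ![ε, f] i x * ![f, ε] i y := fun {f} hf x y => by
    rw [hf x y, Fin.sum_univ_two]
    simp [ε, mul_comm]
  have h1 := conv_mul_apply d e _ _ _ _ _ _ (key hd) (key he) a b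
  have h2 := conv_mul_apply e d _ _ _ _ _ _ (key he) (key hd) a b
  have hεε : conv ε ε = ε := conv_counit ε
  have hdε : conv d ε = d := conv_counit d
  have hεd : conv ε d = d := counit_conv d
  have heε : conv e ε = e := conv_counit e
  have hεe : conv ε e = e := counit_conv e
  simp only [Fin.sum_univ_two, Matrix.cons_val_zero, Matrix.cons_val_one, hεε, hdε, hεd, heε, hεe] at h1 h2
  simp only [LinearMap.sub_apply, h1, h2]
  show _ = ε a * _ + ε b * _
  ring

/-- A conjugate of a derivation is a derivation. -/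
theorem IsDer.conj {d : A →ₗ[k] k} (hd : IsDer d) {g g' : A →ₐ[k] k} (h : toConv g * toConv g' = 1) :
    IsDer (conv (conv g.toLinearMap d) g'.toLinearMap) := by
  intro a b
  let ε : A →ₗ[k] k := (Bialgebra.counitAlgHom k A).toLinearMap
  have hgg : conv g.toLinearMap g'.toLinearMap = ε := by
    refine LinearMap.ext fun x => ?_
    rw [conv_alg_alg, h, AlgHom.toLinearMap_apply, AlgHom.convOne_apply]
    simp [ε]
  have hg : ∀ {f : A →ₐ[k] k}, ∀ x y, f.toLinearMap (x * y) =
      ∑ i ∈ (Finset.univ : Finset (Fin 1)), ![f.toLinearMap] i x * ![f.toLinearMap] i y := fun {f} x y => by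
    simp
  have h1 : ∀ x y, conv g.toLinearMap d (x * y) =
      ∑ i ∈ (Finset.univ : Finset (Fin 2)), ![conv g.toLinearMap ε, conv g.toLinearMap d] i x *
        ![conv g.toLinearMap d, conv g.toLinearMap ε] i y := fun x y => by
    rw [conv_mul_apply g.toLinearMap d _ _ _ _ ![ε, d] ![d, ε] hg (fun x y => by
      rw [hd x y, Fin.sum_univ_two]
      simp [ε, mul_comm]) x y]
    simp
  have h2 := conv_mul_apply _ g'.toLinearMap _ _ _ _ _ _ h1 (hg (f := g')) a b
  simp only [Fin.sum_univ_two, Fin.sum_univ_one, Matrix.cons_val_zero, Matrix.cons_val_one, Matrix.cons_val_fin_one,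
    show conv g.toLinearMap ε = g.toLinearMap from conv_counit _, hgg] at h2
  rw [h2]
  show _ = ε a * _ + ε b * _
  ring

variable (A) (V : Type w) [AddCommGroup V] [Module k V] [Comod k A V]

/-- The action of a functional on a comodule. -/
def dact : (A →ₗ[k] k) →ₗ[k] Module.End k V where
  toFun P := (TensorProduct.rid k V).toLinearMap ∘ₗ LinearMap.lTensor V P ∘ₗ Comod.coact (k := k) (A := A)
  map_add' P Q := by simp [LinearMap.lTensor_add, LinearMap.comp_add, LinearMap.add_comp]
  map_smul' c P := by simp [LinearMap.lTensor_smul, LinearMap.comp_smul, LinearMap.smul_comp]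

variable {A V}

theorem dact_apply (P : A →ₗ[k] k) (v : V) :
    dact A V P v = TensorProduct.rid k V (LinearMap.lTensor V P (Comod.coact (k := k) (A := A) v)) := rfl

theorem dact_alg (g : A →ₐ[k] k) : dact A V g.toLinearMap = Comod.act k A V g := rfl

theorem dact_conv (P Q : A →ₗ[k] k) : dact A V (conv P Q) = dact A V P * dact A V Q := by
  refine LinearMap.ext fun v => ?_
  have hc := LinearMap.congr_fun (HopfRep.Comod.coassoc (k := k) (A := A) (V := V)) v
  simp only [LinearMap.comp_apply, LinearEquiv.coe_coe] at hc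
  simp only [Module.End.mul_apply, dact_apply, conv]
  rw [LinearMap.lTensor_comp_apply, LinearMap.lTensor_comp_apply, ← hc]
  generalize HopfRep.Comod.coact (k := k) (A := A) v = z
  induction z with
  | zero => simp
  | add p q hp hq => simp only [map_add, hp, hq]
  | tmul u a =>
    simp only [LinearMap.rTensor_tmul, LinearMap.lTensor_tmul, TensorProduct.rid_tmul, map_smul]
    generalize HopfRep.Comod.coact (k := k) (A := A) u = y
    induction y with
    | zero => simp
    | add p q hp hq => simp only [TensorProduct.add_tmul, map_add, smul_add, hp, hq]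
    | tmul w b => simp [mul_smul, smul_comm (Q a)]

theorem dact_counit : dact A V (Bialgebra.counitAlgHom k A).toLinearMap = 1 := by
  refine LinearMap.ext fun v => ?_
  have h := LinearMap.congr_fun (HopfRep.Comod.counit_comp (k := k) (A := A) (V := V)) v
  simp only [LinearMap.comp_apply] at h
  rw [dact_apply, show (Bialgebra.counitAlgHom k A).toLinearMap = CoalgebraStruct.counit from rfl, h]
  simp

theorem act_mul_act (g h : A →ₐ[k] k) :
    Comod.act k A V g * Comod.act k A V h = Comod.act k A V (toConv g * toConv h).ofConv := by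
  rw [← dact_alg, ← dact_alg, ← dact_conv, conv_alg_alg]
  rfl

theorem act_one : Comod.act k A V (1 : WithConv (A →ₐ[k] k)).ofConv = (1 : Module.End k V) := by
  rw [← dact_alg, ← dact_counit (k := k) (A := A) (V := V)]
  congr 1

variable (A V) in
/-- The image of the Lie algebra in the endomorphisms of a comodule. -/
def lieImg : LieSubalgebra k (Module.End k V) where
  carrier := {x | ∃ d : A →ₗ[k] k, IsDer d ∧ dact A V d = x}
  zero_mem' := ⟨0, isDer_zero, map_zero _⟩
  add_mem' := by
    rintro _ _ ⟨d, hd, rfl⟩ ⟨e, he, rfl⟩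
    exact ⟨d + e, hd.add he, map_add _ _ _⟩
  smul_mem' := by
    rintro c _ ⟨d, hd, rfl⟩
    exact ⟨c • d, hd.smul c, map_smul _ _ _⟩
  lie_mem' := by
    rintro _ _ ⟨d, hd, rfl⟩ ⟨e, he, rfl⟩
    exact ⟨conv d e - conv e d, hd.comm he, by rw [map_sub, dact_conv, dact_conv, Ring.lie_def]⟩

theorem act_conj_mem_lieImg {x : Module.End k V} (hx : x ∈ lieImg A V) {g g' : A →ₐ[k] k}
    (h : toConv g * toConv g' = 1) : Comod.act k A V g * x * Comod.act k A V g' ∈ lieImg A V := by
  obtain ⟨d, hd, rfl⟩ := hx
  exact ⟨_, hd.conj h, by rw [dact_conv, dact_conv, dact_alg, dact_alg]⟩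

end Groth.Agent.RedLR15
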